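import Cfsg.Agent.Lib.ExtremelyClosed.Basic
import Cfsg.Agent.Lib.PSolvable
import Mathlib.GroupTheory.Commutator.Basic

/-!
# Extremely closed abelian `p`-subgroups: quotients and reductions
-/

set_option autoImplicit false
set_option linter.style.haveILetI false

universe u

namespace CfsgLib.ExtClosed

open Cfsg
open scoped Pointwise commutatorElement

variable {G : Type u} [Group G] [Finite G] {p : ℕ} [Fact p.Prime] {H : Subgroup G}

omit [Fact p.Prime] in
/-- An element of order prime to `p` in the product of a `p`-group with a subgroup it normalizes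
lies in the latter. -/
theorem mem_of_pPrime_mem_sup [Fact p.Prime] {P O : Subgroup G} (hP : IsPGroup p P)
    (hPO : P ≤ Subgroup.normalizer (O : Set G)) {x : G} (hx : x ∈ P ⊔ O)
    (hreg : ¬ p ∣ orderOf x) : x ∈ O := by
  have hp : p.Prime := Fact.out
  obtain ⟨o, ho, b, hb, rfl⟩ := CfsgLib.mem_sup_of_le_normalizer hPO (sup_comm P O ▸ hx)
  have hpow : ∀ n : ℕ, (o * b) ^ n * (b ^ n)⁻¹ ∈ O := by
    intro n
    induction n with
    | zero => simp
    | succ n ih =>
      rw [show (o * b) ^ (n + 1) * (b ^ (n + 1))⁻¹ =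
        o * (b * ((o * b) ^ n * (b ^ n)⁻¹) * b⁻¹) by rw [pow_succ', pow_succ']; group]
      exact O.mul_mem ho ((Subgroup.mem_normalizer_iff.1 (hPO hb) _).1 ih)
  have hm := hpow (orderOf (o * b))
  rw [pow_orderOf_eq_one, one_mul, inv_mem_iff] at hm
  obtain ⟨j, hj⟩ := IsPGroup.iff_orderOf.1 hP ⟨b, hb⟩
  rw [Subgroup.orderOf_mk] at hj
  have hcop : (orderOf b).Coprime (orderOf (o * b)) := by
    rw [hj]; exact (hp.coprime_iff_not_dvd.2 hreg).pow_left j
  obtain ⟨m, hm'⟩ := exists_pow_eq_self_of_coprime (hcop.symm)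
  exact O.mul_mem ho (hm' ▸ O.pow_mem hm m)

/-- Only one element of a complement centralizes `H`. -/
theorem Hyp.eq_one_of_centralizes (h : Hyp p H) {g : G} {K : Subgroup G} (hKL : K ≤ pairGroup H g)
    (hKp : ¬ p ∣ Nat.card K) {c : G} (hc : c ∈ K) (hcH : c ∈ Subgroup.centralizer (H : Set G)) :
    c = 1 := by
  have hcl : c ∈ pairGroup H g ⊓ Subgroup.normalizer (H : Set G) :=
    ⟨hKL hc, Subgroup.centralizer_le_normalizer _ hcH⟩
  rw [h.closed g] at hcl
  exact Subgroup.mem_bot.1 (mem_of_pPrime_mem_sup h.isP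
    (le_top.trans_eq (Subgroup.normalizer_eq_top (⊥ : Subgroup G)).symm) (Subgroup.mem_sup_left hcl)
    (fun hd => hKp (hd.trans (Subgroup.orderOf_dvd_natCard K hc))))

/-- A `p'`-subgroup of a pair group whose commutators with `H` lie in `HO` lies in `O`. -/
theorem Hyp.le_of_commutator (h : Hyp p H) {g : G} {K O : Subgroup G} (hKL : K ≤ pairGroup H g)
    (hKp : ¬ p ∣ Nat.card K) (hHK : H ≤ Subgroup.normalizer (K : Set G))
    (hHO : H ≤ Subgroup.normalizer (O : Set G))
    (hcomm : ∀ c ∈ K, ∀ a ∈ H, c * a * c⁻¹ * a⁻¹ ∈ H ⊔ O) : K ≤ O := by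
  have hp : p.Prime := Fact.out
  haveI := h.comm
  have hcop : (Nat.card H).Coprime (Nat.card K) := by
    obtain ⟨n, hn⟩ := IsPGroup.iff_card.1 h.isP
    rw [hn]; exact (hp.coprime_iff_not_dvd.2 hKp).pow_left n
  have hsol : Group.IsSolvable H := by
    haveI := h.isP.isNilpotent; infer_instance
  conv_lhs => rw [← CfsgLib.coprime_commutator_sup hHK hcop (Or.inl hsol)]
  refine sup_le (Subgroup.commutator_le.2 fun c hc a ha => ?_) fun c hc => ?_
  · have hcK : ⁅c, a⁆ ∈ K :=
      CfsgLib.commutator_le_of_le_normalizer hHK (Subgroup.commutator_mem_commutator hc ha)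
    exact mem_of_pPrime_mem_sup h.isP hHO (by rw [commutatorElement_def]; exact hcomm c hc a ha)
      fun hd => hKp (hd.trans (Subgroup.orderOf_dvd_natCard K hcK))
  · rw [h.eq_one_of_centralizes hKL hKp hc.1 hc.2]
    exact O.one_mem

/-- Frattini argument: the preimage of the normalizer of the image of `H`. -/
theorem Hyp.comap_normalizer (h : Hyp p H) (N : Subgroup G) [N.Normal] :
    (Subgroup.normalizer ((H.map (QuotientGroup.mk' N) : Subgroup (G ⧸ N)) : Set (G ⧸ N))).comap
      (QuotientGroup.mk' N) = Subgroup.normalizer (H : Set G) ⊔ N := by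
  have hmem : ∀ x : G, QuotientGroup.mk' N x ∈ H.map (QuotientGroup.mk' N) ↔ x ∈ H ⊔ N := fun x => by
    rw [← Subgroup.mem_comap, Subgroup.comap_map_eq, QuotientGroup.ker_mk']
  refine le_antisymm (fun x hx => ?_) (sup_le (fun x hx => ?_) fun x hx => ?_)
  · have hconj : ∀ a ∈ H, x * a * x⁻¹ ∈ H ⊔ N := fun a ha => by
      rw [← hmem, map_mul, map_mul, map_inv]
      exact (Subgroup.mem_normalizer_iff.1 hx _).1 ⟨a, ha, rfl⟩
    obtain ⟨K, hKL, -, hKp, -, -, -, hSc⟩ := h.pair_structure x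
    obtain ⟨c, hc, hcH⟩ := hSc (H.map (MulAut.conj x).toMonoidHom) (h.isP.map _) le_sup_right
    have hcN : c ∈ N := by
      refine mem_of_pPrime_mem_sup h.isP
        (le_top.trans_eq (Subgroup.normalizer_eq_top N).symm) ?_
        (fun hd => hKp (hd.trans (Subgroup.orderOf_dvd_natCard K hc)))
      exact (sup_le le_sup_left (by rintro _ ⟨a, ha, rfl⟩; exact hconj a ha) :
        pairGroup H x ≤ H ⊔ N) (hKL hc)
    have hn : c * x ∈ Subgroup.normalizer (H : Set G) := mem_normalizer_of_conj_mem fun a ha => by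
      rw [show c * x * a * (c * x)⁻¹ = c * (x * a * x⁻¹) * c⁻¹ by group]
      exact hcH _ ⟨a, ha, rfl⟩
    rw [show x = c⁻¹ * (c * x) by group]
    exact mul_mem (Subgroup.mem_sup_right (N.inv_mem hcN)) (Subgroup.mem_sup_left hn)
  · refine Subgroup.le_normalizer_map (f := QuotientGroup.mk' N) ⟨x, hx, rfl⟩
  · rw [Subgroup.mem_comap, show QuotientGroup.mk' N x = 1 from (QuotientGroup.eq_one_iff x).2 hx]
    exact one_mem _

/-- Extreme closure passes to quotients. -/
theorem Hyp.map (h : Hyp p H) (N : Subgroup G) [N.Normal] :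
    Hyp p (H.map (QuotientGroup.mk' N)) := by
  set π := QuotientGroup.mk' N with hπ
  refine ⟨h.isP.map _, ⟨⟨?_⟩⟩, fun gq => le_antisymm ?_ (le_inf le_sup_left Subgroup.le_normalizer)⟩
  · rintro ⟨_, a, ha, rfl⟩ ⟨_, b, hb, rfl⟩
    refine Subtype.ext ?_
    show π a * π b = π b * π a
    rw [← map_mul, h.mul_comm ha hb, map_mul]
  obtain ⟨g, rfl⟩ := QuotientGroup.mk'_surjective N gq
  rintro y ⟨hy, hyN⟩
  have hle : H.map π ⊔ (H.map π).map (MulAut.conj (π g)).toMonoidHom ≤ (pairGroup H g).map π := by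
    refine sup_le (Subgroup.map_mono le_sup_left) ?_
    rintro _ ⟨_, ⟨a, ha, rfl⟩, rfl⟩
    exact ⟨g * a * g⁻¹, conj_mem_pairGroup g ha, by simp [map_mul, map_inv]⟩
  obtain ⟨l, hl, rfl⟩ := hle hy
  obtain ⟨K, hKL, hKn, hKp, hprod, -, -, -⟩ := h.pair_structure g
  obtain ⟨c, hc, a, ha, rfl⟩ := hprod l hl
  have haN : π a ∈ Subgroup.normalizer ((H.map π : Subgroup (G ⧸ N)) : Set (G ⧸ N)) :=
    Subgroup.le_normalizer ⟨a, ha, rfl⟩
  have hcN : π c ∈ Subgroup.normalizer ((H.map π : Subgroup (G ⧸ N)) : Set (G ⧸ N)) := by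
    rw [map_mul] at hyN
    exact (Subgroup.mul_mem_cancel_right _ haN).1 hyN
  set K₁ := K ⊓ (Subgroup.normalizer ((H.map π : Subgroup (G ⧸ N)) : Set (G ⧸ N))).comap π
  have hK₁ : K₁ ≤ N := by
    refine h.le_of_commutator (g := g) (inf_le_left.trans hKL)
      (fun hd => hKp (hd.trans (Subgroup.card_dvd_of_le inf_le_left)))
      (fun b hb => ?_) (le_top.trans_eq (Subgroup.normalizer_eq_top N).symm) fun d hd b hb => ?_
    · have hbN : b ∈ (Subgroup.normalizer ((H.map π : Subgroup (G ⧸ N)) : Set (G ⧸ N))).comap π :=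
        Subgroup.le_normalizer ⟨b, hb, rfl⟩
      rw [Subgroup.mem_normalizer_iff]
      intro d
      exact and_congr (Subgroup.mem_normalizer_iff.1 (hKn (Subgroup.mem_sup_left hb)) d)
        (Subgroup.mem_normalizer_iff.1 (Subgroup.le_normalizer hbN) d)
    · have := (Subgroup.mem_normalizer_iff.1 hd.2 (π b)).1 ⟨b, hb, rfl⟩
      rw [← map_inv, ← map_mul, ← map_mul, ← Subgroup.mem_comap, Subgroup.comap_map_eq,
        QuotientGroup.ker_mk'] at this
      exact mul_mem this (Subgroup.mem_sup_left (H.inv_mem hb))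
  rw [map_mul, show π c = 1 from (QuotientGroup.eq_one_iff c).2 (hK₁ ⟨hc, hcN⟩), one_mul]
  exact ⟨a, ha, rfl⟩

omit [Fact p.Prime] in
/-- The `p'`-core of the quotient by a central `p`-subgroup. -/
theorem pPrimeCore_quotient_central [Fact p.Prime] (Z : Subgroup G) [Z.Normal] (hZ : IsPGroup p Z)
    (hZc : Z ≤ Subgroup.center G) (hO : pPrimeCore p G = ⊥) : pPrimeCore p (G ⧸ Z) = ⊥ := by
  have hp : p.Prime := Fact.out
  set π := QuotientGroup.mk' Z with hπ
  set M := (pPrimeCore p (G ⧸ Z)).comap π with hM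
  haveI hMn : M.Normal := Subgroup.Normal.comap inferInstance π
  have hidx : (Z.subgroupOf M).index = Nat.card (pPrimeCore p (G ⧸ Z)) := by
    show Z.relIndex M = _
    rw [← Subgroup.relIndex_bot_left (pPrimeCore p (G ⧸ Z)),
      ← Subgroup.map_comap_eq_self_of_surjective (QuotientGroup.mk'_surjective Z)
        (pPrimeCore p (G ⧸ Z)), ← Subgroup.relIndex_comap]
    congr 1
    rw [MonoidHom.comap_bot, QuotientGroup.ker_mk']
  have hZM : Z ≤ M := fun z hz => by
    rw [hM, Subgroup.mem_comap, show π z = 1 from (QuotientGroup.eq_one_iff z).2 hz]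
    exact one_mem _
  set S : Sylow p M := (hZ.of_equiv (Subgroup.subgroupOfEquivOfLe hZM).symm).toSylow
    (by rw [hidx]; exact CfsgLib.not_dvd_card_pPrimeCore hp) with hS
  have hburn : Subgroup.normalizer ((S : Subgroup M) : Set M) ≤
      Subgroup.centralizer ((S : Subgroup M) : Set M) := fun m _ => by
    rw [Subgroup.mem_centralizer_iff]
    intro z hz
    exact Subtype.ext ((Subgroup.mem_center_iff.1 (hZc (Subgroup.mem_subgroupOf.1 hz)) (m : G)).symm)
  obtain ⟨N, hNn, hcompl⟩ : ∃ N : Subgroup M, N.Normal ∧ N.IsComplement' (S : Subgroup M) :=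
    ⟨_, MonoidHom.normal_ker _, MonoidHom.ker_transferSylow_isComplement' S hburn⟩
  have hN1 : N = ⊥ := by
    have hNle : N ≤ pPrimeCore p M := by
      haveI := hNn
      refine CfsgLib.le_pPrimeCore ?_
      rw [← hcompl.index_eq_card]
      exact (hp.coprime_iff_not_dvd.2 S.not_dvd_index).symm
    have hbot : (pPrimeCore p M).map M.subtype = ⊥ :=
      eq_bot_iff.2 ((CfsgLib.map_pPrimeCore_le p M).trans_eq hO)
    rw [Subgroup.map_eq_bot_iff_of_injective _ M.subtype_injective] at hbot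
    exact eq_bot_iff.2 (hNle.trans_eq hbot)
  have hi1 : (Z.subgroupOf M).index = 1 := by
    have := hcompl.index_eq_card
    rw [hN1, Subgroup.card_bot] at this
    exact this
  rw [hidx] at hi1
  exact Subgroup.card_eq_one.1 hi1

end CfsgLib.ExtClosed
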