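import Cfsg.Agent.Lib.Coprime
import Cfsg.Agent.Lib.Basic
import Cfsg.Agent.Lib.Blocks.Sections
import Cfsg.Prelude.Def_SubgroupEmbedding
import Cfsg.Prelude.Def_CaseTheorems
import Cfsg.Prelude.Def_Transfer

/-!
# Extremely closed abelian `p`-subgroups: structure of two conjugates
-/

set_option autoImplicit false
set_option linter.style.haveILetI false

universe u

namespace CfsgLib.ExtClosed

open Cfsg
open scoped Pointwise

variable {G : Type u} [Group G] [Finite G] {p : ℕ} [Fact p.Prime] {H : Subgroup G}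

/-- An extremely closed abelian `p`-subgroup. -/
structure Hyp (p : ℕ) (H : Subgroup G) : Prop where
  isP : IsPGroup p H
  comm : IsMulCommutative H
  closed : IsExtremelyClosed H

theorem Hyp.mul_comm (h : Hyp p H) {a b : G} (ha : a ∈ H) (hb : b ∈ H) : a * b = b * a :=
  congrArg Subtype.val (h.comm.is_comm.comm (⟨a, ha⟩ : H) ⟨b, hb⟩)

/-- `H` and its conjugate by `g`. -/
abbrev pairGroup (H : Subgroup G) (g : G) : Subgroup G := H ⊔ H.map (MulAut.conj g).toMonoidHom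

omit [Finite G] in
theorem conj_mem_pairGroup (g : G) {a : G} (ha : a ∈ H) : g * a * g⁻¹ ∈ pairGroup H g :=
  Subgroup.mem_sup_right ⟨a, ha, rfl⟩

theorem Hyp.le_centralizer (h : Hyp p H) : H ≤ Subgroup.centralizer (H : Set G) := fun _ ha =>
  Subgroup.mem_centralizer_iff.2 fun _ hb => h.mul_comm hb ha

/-- A `p`-subgroup containing two conjugates shows they are equal. -/
theorem Hyp.conj_eq_of_le_normalizer (h : Hyp p H) {g : G}
    (hg : ∀ a ∈ H, g * a * g⁻¹ ∈ Subgroup.normalizer (H : Set G)) {a : G} (ha : a ∈ H) :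
    g * a * g⁻¹ ∈ H := by
  have hle : g * a * g⁻¹ ∈ pairGroup H g ⊓ Subgroup.normalizer (H : Set G) :=
    ⟨conj_mem_pairGroup g ha, hg a ha⟩
  rwa [h.closed g] at hle

omit [Finite G] in
theorem mem_normalizer_of_conj_mem [Finite G] {g : G} (hg : ∀ a ∈ H, g * a * g⁻¹ ∈ H) :
    g ∈ Subgroup.normalizer (H : Set G) := by
  have e : H.map (MulAut.conj g).toMonoidHom = H :=
    Subgroup.eq_of_le_of_card_ge (by rintro _ ⟨a, ha, rfl⟩; exact hg a ha)
      (le_of_eq (Subgroup.card_map_of_injective (MulAut.conj g).injective).symm)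
  rw [Subgroup.mem_normalizer_iff]
  intro a
  refine ⟨hg a, fun hga => ?_⟩
  obtain ⟨b, hb, hba⟩ := (e.symm ▸ hga : g * a * g⁻¹ ∈ H.map (MulAut.conj g).toMonoidHom)
  have : b = a := (MulAut.conj g).injective hba
  exact this ▸ hb

/-- `H` is normal in every `p`-subgroup containing it. -/
theorem Hyp.le_normalizer_of_isPGroup (h : Hyp p H) {P : Subgroup G} (hP : IsPGroup p P) (hHP : H ≤ P) :
    P ≤ Subgroup.normalizer (H : Set G) := by
  haveI := hP.isNilpotent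
  set N₁ := (Subgroup.normalizer (H : Set G)).subgroupOf P with hN₁
  by_contra hne
  have hlt : N₁ < ⊤ := lt_top_iff_ne_top.2 fun e => hne fun a ha => by
    have : (⟨a, ha⟩ : P) ∈ N₁ := e ▸ Subgroup.mem_top _
    exact Subgroup.mem_subgroupOf.1 this
  obtain ⟨y, hy, hyN⟩ := SetLike.exists_of_lt (Group.normalizerCondition_of_isNilpotent N₁ hlt)
  refine hyN (Subgroup.mem_subgroupOf.2 (mem_normalizer_of_conj_mem fun a ha =>
    h.conj_eq_of_le_normalizer (fun b hb => ?_) ha))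
  have hb' : (⟨b, hHP hb⟩ : P) ∈ N₁ := Subgroup.mem_subgroupOf.2 (Subgroup.le_normalizer hb)
  exact Subgroup.mem_subgroupOf.1 ((Subgroup.mem_normalizer_iff.1 hy _).1 hb')

/-- `H` is a Sylow subgroup of the pair group, which has a normal complement to it. -/
theorem Hyp.pair_structure (h : Hyp p H) (g : G) :
    ∃ K : Subgroup G, K ≤ pairGroup H g ∧ pairGroup H g ≤ Subgroup.normalizer (K : Set G) ∧
      ¬ p ∣ Nat.card K ∧ (∀ y ∈ pairGroup H g, ∃ c ∈ K, ∃ a ∈ H, y = c * a) ∧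
      (∀ c ∈ K, c ∈ H → c = 1) ∧
      (∀ z ∈ pairGroup H g, (∃ k : ℕ, orderOf z = p ^ k) → ∃ c ∈ K, c * z * c⁻¹ ∈ H) ∧
      (∀ S : Subgroup G, IsPGroup p S → S ≤ pairGroup H g → ∃ c ∈ K, ∀ z ∈ S, c * z * c⁻¹ ∈ H) := by
  have hp : p.Prime := Fact.out
  set L := pairGroup H g with hL
  have hHL : H ≤ L := le_sup_left
  have hHp : IsPGroup p (H.subgroupOf L) := h.isP.of_equiv (Subgroup.subgroupOfEquivOfLe hHL).symm
  obtain ⟨S, hS⟩ := hHp.exists_le_sylow
  have hclosed : L ⊓ Subgroup.normalizer (H : Set G) = H := h.closed g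
  have hSeq : (S : Subgroup L) = H.subgroupOf L := by
    refine le_antisymm (fun z hz => ?_) hS
    have hSp : IsPGroup p ((S : Subgroup L).map L.subtype) := S.2.map _
    have hHS : H ≤ (S : Subgroup L).map L.subtype := fun a ha =>
      ⟨⟨a, hHL ha⟩, hS (Subgroup.mem_subgroupOf.2 ha), rfl⟩
    have hzN := h.le_normalizer_of_isPGroup hSp hHS ⟨z, hz, rfl⟩
    have : (z : G) ∈ L ⊓ Subgroup.normalizer (H : Set G) := ⟨z.2, hzN⟩
    rw [hclosed] at this
    exact Subgroup.mem_subgroupOf.2 this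
  have hburn : Subgroup.normalizer ((S : Subgroup L) : Set L) ≤
      Subgroup.centralizer ((S : Subgroup L) : Set L) := by
    intro n hn
    have hnN : (n : G) ∈ Subgroup.normalizer (H : Set G) := mem_normalizer_of_conj_mem fun a ha => by
      have hm := (Subgroup.mem_normalizer_iff.1 hn ⟨a, hHL ha⟩).1
        (by rw [hSeq]; exact Subgroup.mem_subgroupOf.2 ha)
      rw [hSeq] at hm
      exact Subgroup.mem_subgroupOf.1 hm
    have hnH : (n : G) ∈ L ⊓ Subgroup.normalizer (H : Set G) := ⟨n.2, hnN⟩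
    rw [hclosed] at hnH
    rw [Subgroup.mem_centralizer_iff]
    intro a ha
    rw [SetLike.mem_coe, hSeq] at ha
    exact Subtype.ext (h.mul_comm (Subgroup.mem_subgroupOf.1 ha) hnH)
  obtain ⟨N, hNn, hcompl⟩ : ∃ N : Subgroup L, N.Normal ∧ N.IsComplement' (S : Subgroup L) :=
    ⟨_, MonoidHom.normal_ker _, MonoidHom.ker_transferSylow_isComplement' S hburn⟩
  have hNp : ¬ p ∣ Nat.card N := by
    rw [← hcompl.index_eq_card]; exact S.not_dvd_index
  have hprod : ∀ y : L, ∃ c ∈ N, ∃ a ∈ (S : Subgroup L), y = c * a := by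
    intro y
    obtain ⟨⟨⟨c, hc⟩, ⟨a, ha⟩⟩, e⟩ := hcompl.surjective y
    exact ⟨c, hc, a, ha, e.symm⟩
  have hSconj : ∀ T : Subgroup L, IsPGroup p T → ∃ c ∈ N, ∀ z ∈ T, c * z * c⁻¹ ∈ (S : Subgroup L) := by
    intro T hT
    obtain ⟨R, hR⟩ := hT.exists_le_sylow
    obtain ⟨w, hw⟩ := MulAction.exists_smul_eq L R S
    obtain ⟨c, hc, a, ha, hwca⟩ := hprod w⁻¹
    refine ⟨c⁻¹, N.inv_mem hc, fun z hz => ?_⟩
    have hzS : w * z * w⁻¹ ∈ (S : Subgroup L) := by
      rw [← hw, Sylow.coe_subgroup_smul]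
      exact Subgroup.smul_mem_pointwise_smul z (MulAut.conj w) _ (hR hz)
    have e : c⁻¹ * z * c⁻¹⁻¹ = a * (w * z * w⁻¹) * a⁻¹ := by
      rw [show w = a⁻¹ * c⁻¹ by rw [← inv_inv w, hwca, mul_inv_rev]]; group
    rw [e]
    exact Subgroup.mul_mem _ (Subgroup.mul_mem _ ha hzS) (Subgroup.inv_mem _ ha)
  refine ⟨N.map L.subtype, Subgroup.map_subtype_le N, fun y hy => ?_, ?_, fun y hy => ?_,
    fun c hc hcH => ?_, fun z hz hzp => ?_, fun T hT hTL => ?_⟩
  · rw [Subgroup.mem_normalizer_iff]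
    intro a
    constructor
    · rintro ⟨b, hb, rfl⟩
      exact ⟨⟨y, hy⟩ * b * (⟨y, hy⟩ : L)⁻¹, hNn.conj_mem b hb _, rfl⟩
    · rintro ⟨b, hb, hba⟩
      refine ⟨(⟨y, hy⟩ : L)⁻¹ * b * (⟨y, hy⟩ : L)⁻¹⁻¹, hNn.conj_mem b hb _, ?_⟩
      change ((b : L) : G) = y * a * y⁻¹ at hba
      show y⁻¹ * (b : G) * y⁻¹⁻¹ = a
      rw [hba]; group
  · rwa [Subgroup.card_map_of_injective L.subtype_injective]
  · obtain ⟨c, hc, a, ha, e⟩ := hprod ⟨y, hy⟩
    rw [hSeq] at ha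
    exact ⟨c, ⟨c, hc, rfl⟩, a, Subgroup.mem_subgroupOf.1 ha, congrArg Subtype.val e⟩
  · obtain ⟨b, hb, rfl⟩ := hc
    have hbS : b ∈ (S : Subgroup L) := by rw [hSeq]; exact Subgroup.mem_subgroupOf.2 hcH
    have := hcompl.disjoint.le_bot ⟨hb, hbS⟩
    rw [Subgroup.mem_bot.1 this]; rfl
  · obtain ⟨k, hk⟩ := hzp
    obtain ⟨c, hc, hcz⟩ := hSconj (Subgroup.zpowers ⟨z, hz⟩)
      (IsPGroup.iff_card.2 ⟨k, by rw [Nat.card_zpowers, Subgroup.orderOf_mk, hk]⟩)
    refine ⟨c, ⟨c, hc, rfl⟩, ?_⟩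
    have := hcz _ (Subgroup.mem_zpowers _)
    rw [hSeq] at this
    exact Subgroup.mem_subgroupOf.1 this
  · obtain ⟨c, hc, hcz⟩ := hSconj (T.subgroupOf L) (hT.of_equiv (Subgroup.subgroupOfEquivOfLe hTL).symm)
    refine ⟨c, ⟨c, hc, rfl⟩, fun z hz => ?_⟩
    have := hcz ⟨z, hTL hz⟩ (Subgroup.mem_subgroupOf.2 hz)
    rw [hSeq] at this
    exact Subgroup.mem_subgroupOf.1 this

/-- Two elements of a `p'`-subgroup times `H` agree modulo it only if they agree. -/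
theorem eq_of_mul_inv_mem {K : Subgroup G} (hKH : ∀ c ∈ K, c ∈ H → c = 1) {a b : G}
    (ha : a ∈ H) (hb : b ∈ H) (h : a * b⁻¹ ∈ K) : a = b :=
  mul_inv_eq_one.1 (hKH _ h (H.mul_mem ha (H.inv_mem hb)))

/-- The identification of `H` with a conjugate: every product of an element of `H` with an element
of the conjugate is conjugate to its image in `H` times a commuting `p'`-element of the pair
group, the latter lying in the complement. -/
theorem Hyp.pair_product (h : Hyp p H) (g : G) :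
    ∃ x : G, (∀ k ∈ H, ∃ k' ∈ H, g * k' * g⁻¹ = x * k * x⁻¹) ∧ ∀ a ∈ H, ∀ k ∈ H,
      (a * k = 1 → ¬ p ∣ orderOf (a * (x * k * x⁻¹))) ∧
      (a * k ≠ 1 → p ∣ orderOf (a * (x * k * x⁻¹)) ∧ ∃ K : Subgroup G,
        ¬ p ∣ Nat.card K ∧ H ≤ Subgroup.normalizer (K : Set G) ∧ K ≤ pairGroup H g ∧
        ∃ c ∈ K, Commute (a * k) c ∧ ∃ y : G, y * (a * (x * k * x⁻¹)) * y⁻¹ = a * k * c) := by
  classical
  have hp : p.Prime := Fact.out
  obtain ⟨K, hKL, hKn, hKp, hprod, hKH, hzc, hSc⟩ := h.pair_structure g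
  set L := pairGroup H g with hL
  have hHL : H ≤ L := le_sup_left
  obtain ⟨c₀, hc₀, hc₀H⟩ := hSc (H.map (MulAut.conj g).toMonoidHom)
    (h.isP.map _) le_sup_right
  have hsurj : ∀ k ∈ H, ∃ k' ∈ H, g * k' * g⁻¹ = c₀⁻¹ * k * c₀⁻¹⁻¹ := by
    intro k hk
    have e : (H.map (MulAut.conj g).toMonoidHom).map (MulAut.conj c₀).toMonoidHom = H :=
      Subgroup.eq_of_le_of_card_ge (by rintro _ ⟨b, hb, rfl⟩; exact hc₀H b hb)
        (le_of_eq (by rw [Subgroup.card_map_of_injective (MulAut.conj c₀).injective,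
          Subgroup.card_map_of_injective (MulAut.conj g).injective]))
    obtain ⟨b, ⟨k', hk', rfl⟩, hbk⟩ := (e.symm ▸ hk :
      k ∈ (H.map (MulAut.conj g).toMonoidHom).map (MulAut.conj c₀).toMonoidHom)
    refine ⟨k', hk', ?_⟩
    rw [← hbk]
    show g * k' * g⁻¹ = c₀⁻¹ * (c₀ * (g * k' * g⁻¹) * c₀⁻¹) * c₀⁻¹⁻¹
    group
  refine ⟨c₀⁻¹, hsurj, fun a ha k hk => ?_⟩
  set x := c₀⁻¹ with hx
  have hxK : x ∈ K := K.inv_mem hc₀
  set el := a * (x * k * x⁻¹) with hel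
  have hxk : x * k * x⁻¹ ∈ L := L.mul_mem (L.mul_mem (hKL hxK) (hHL hk)) (L.inv_mem (hKL hxK))
  have helL : el ∈ L := L.mul_mem (hHL ha) hxk
  have hconjK : ∀ y ∈ L, ∀ c ∈ K, y * c * y⁻¹ ∈ K := fun y hy c hc =>
    (Subgroup.mem_normalizer_iff.1 (hKn hy) c).1 hc
  have hmod : (a * k)⁻¹ * el ∈ K := by
    rw [show (a * k)⁻¹ * el = (k⁻¹ * x * k⁻¹⁻¹) * x⁻¹ by rw [hel]; group]
    exact K.mul_mem (hconjK _ (L.inv_mem (hHL hk)) _ hxK) (K.inv_mem hxK)
  refine ⟨fun h1 => ?_, fun h1 => ?_⟩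
  · rw [h1, inv_one, one_mul] at hmod
    exact fun hd => hKp (hd.trans (Subgroup.orderOf_dvd_natCard K hmod))
  obtain ⟨z, w, hzw, hcom, hzp, hwr, hzm, hwm⟩ := CfsgLib.Blocks.exists_pPart hp el
  have hzL : z ∈ L := Subgroup.zpowers_le.2 helL hzm
  have hwL : w ∈ L := Subgroup.zpowers_le.2 helL hwm
  have hwK : w ∈ K := by
    obtain ⟨c, hc, b, hb, e⟩ := hprod w hwL
    obtain ⟨j, hj⟩ := IsPGroup.iff_orderOf.1 h.isP ⟨b, hb⟩
    rw [Subgroup.orderOf_mk] at hj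
    have hpow : ∀ n : ℕ, (c * b) ^ n * (b ^ n)⁻¹ ∈ K := by
      intro n
      induction n with
      | zero => simp
      | succ n ih =>
        rw [show (c * b) ^ (n + 1) * (b ^ (n + 1))⁻¹ =
          c * (b * ((c * b) ^ n * (b ^ n)⁻¹) * b⁻¹) by rw [pow_succ', pow_succ']; group]
        exact K.mul_mem hc (hconjK _ (hHL hb) _ ih)
    have hb1 : b = 1 := by
      have hm := hpow (orderOf w)
      rw [← e, pow_orderOf_eq_one, one_mul, inv_mem_iff] at hm
      have hbn := hKH _ hm (Subgroup.pow_mem _ hb _)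
      exact orderOf_eq_one_iff.1 (Nat.eq_one_of_dvd_coprimes
        (((hp.coprime_iff_not_dvd.2 hwr)).pow_left j) (dvd_of_eq hj) (orderOf_dvd_of_pow_eq_one hbn))
    rw [e, hb1, mul_one]; exact hc
  obtain ⟨y, hy, hyz⟩ := hzc z hzL hzp
  have hyzu : y * z * y⁻¹ = a * k := by
    refine eq_of_mul_inv_mem hKH hyz (H.mul_mem ha hk) ?_
    have e1 : z = a * k * ((a * k)⁻¹ * el * w⁻¹) := by
      rw [eq_comm, show a * k * ((a * k)⁻¹ * el * w⁻¹) = el * w⁻¹ by group, ← hzw, mul_inv_cancel_right]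
    have hmem : (a * k)⁻¹ * el * w⁻¹ ∈ K := K.mul_mem hmod (K.inv_mem hwK)
    have hu : a * k ∈ L := hHL (H.mul_mem ha hk)
    rw [show y * z * y⁻¹ * (a * k)⁻¹ =
      y * ((a * k) * ((a * k)⁻¹ * el * w⁻¹ * y⁻¹) * (a * k)⁻¹) from ?_]
    swap
    · conv_lhs => rw [e1]
      group
    exact K.mul_mem hy (hconjK _ hu _ (K.mul_mem hmem (K.inv_mem hy)))
  refine ⟨?_, K, hKp, fun b hb => hKn (hHL hb), hKL, y * w * y⁻¹,
    hconjK y (hKL hy) w hwK, ?_, y, ?_⟩
  · obtain ⟨j, hj⟩ := hzp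
    have hord : orderOf el = orderOf z * orderOf w := by
      rw [← hcom.orderOf_mul_eq_mul_orderOf_of_coprime
        (by rw [hj]; exact (hp.coprime_iff_not_dvd.2 hwr).pow_left j), hzw]
    refine hord ▸ Dvd.dvd.mul_right ?_ _
    rw [hj]
    refine dvd_pow_self p fun e => h1 ?_
    rw [← hyzu, orderOf_eq_one_iff.1 (by rw [hj, e, pow_zero] : orderOf z = 1)]
    group
  · rw [← hyzu]
    exact hcom.map (MulAut.conj y).toMonoidHom
  · rw [← hyzu, ← hzw]; group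

/-- Extreme closure passes to subgroups containing `H`. -/
theorem Hyp.subgroupOf (h : Hyp p H) {U : Subgroup G} (hHU : H ≤ U) : Hyp p (H.subgroupOf U) := by
  refine ⟨h.isP.of_equiv (Subgroup.subgroupOfEquivOfLe hHU).symm,
    ⟨⟨fun a b => Subtype.ext (Subtype.ext (h.mul_comm (Subgroup.mem_subgroupOf.1 a.2)
      (Subgroup.mem_subgroupOf.1 b.2)))⟩⟩, fun g => le_antisymm ?_ ?_⟩
  · rintro a ⟨ha, haN⟩
    refine Subgroup.mem_subgroupOf.2 ?_
    rw [← h.closed (g : G)]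
    refine ⟨?_, mem_normalizer_of_conj_mem fun b hb => ?_⟩
    · have hle : H.subgroupOf U ⊔ (H.subgroupOf U).map (MulAut.conj g).toMonoidHom ≤
          (pairGroup H (g : G)).comap U.subtype := by
        refine sup_le (fun b hb => Subgroup.mem_sup_left (Subgroup.mem_subgroupOf.1 hb)) ?_
        rintro _ ⟨b, hb, rfl⟩
        exact conj_mem_pairGroup (g : G) (Subgroup.mem_subgroupOf.1 hb)
      exact hle ha
    · exact Subgroup.mem_subgroupOf.1
        ((Subgroup.mem_normalizer_iff.1 haN ⟨b, hHU hb⟩).1 (Subgroup.mem_subgroupOf.2 hb))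
  · exact le_inf le_sup_left Subgroup.le_normalizer

end CfsgLib.ExtClosed
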