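import Cfsg.Agent.Lib.Blocks.Principal
import Cfsg.Agent.Lib.Blocks.SecondMain
import Cfsg.Agent.Lib.CharTheory.More
import Cfsg.Agent.Lib.Basic

/-!
# Character facts: positivity, values and orthogonality on sections of the principal block
-/

set_option autoImplicit false
set_option linter.style.haveILetI false

universe u

namespace CfsgLib.ExtClosed

open Cfsg CfsgLib.CharTheory CfsgLib.Blocks
open scoped ComplexConjugate

variable {G : Type u} [Group G] [Fintype G] {p : ℕ} {M : Ideal AlgInt}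

/-- Translation convolution of an irreducible character with its conjugate. -/
theorem sum_conj_mul (χ : IrrCharacter G) (a b : G) :
    ∑ z, (χ : G → ℂ) (a * z) * conj ((χ : G → ℂ) (b * z)) =
      (Nat.card G : ℂ) / (χ : G → ℂ) 1 * (χ : G → ℂ) (a * b⁻¹) := by
  classical
  have hcl := isClassFunction_char (isCharacter_of_irr χ.2)
  have hf : IsClassFunction G (fun x : G => conj ((χ : G → ℂ) x)) := fun x y => by simp only [hcl x y]
  have h := sum_classFun_mul_shift hf χ (b⁻¹ * a)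
  have hω : omega (χ : G → ℂ) (fun x : G => conj ((χ : G → ℂ) x)) = (Nat.card G : ℂ) / (χ : G → ℂ) 1 := by
    unfold omega
    congr 1
    rw [← sum_mul_conj_irr χ.2]
    exact Finset.sum_congr rfl fun g _ => _root_.mul_comm _ _
  have e1 : (χ : G → ℂ) (b⁻¹ * a) = (χ : G → ℂ) (a * b⁻¹) := by
    rw [← hcl (b⁻¹ * a) b]; group
  rw [hω, e1] at h
  rw [← h]
  refine Fintype.sum_equiv (Equiv.mulRight b) _ _ fun z => ?_
  rw [Equiv.coe_mulRight, _root_.mul_comm]
  congr 1
  · congr 1
    rw [← hcl (b * z) b⁻¹]; group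
  · rw [← hcl (a * z) z]; group

/-- Irreducible characters are positive definite functions. -/
theorem sum_pair_nonneg (χ : IrrCharacter G) {ι : Type*} [Fintype ι] (a : ι → ℝ) (f : ι → G) :
    0 ≤ (∑ i, ∑ j, ((a i : ℂ) * (a j : ℂ)) * (χ : G → ℂ) (f i * (f j)⁻¹)).re := by
  have hd := charDegree_spec' χ.2
  have hd0 : (χ : G → ℂ) 1 ≠ 0 := irr_ne_zero χ.2
  have hG : (Nat.card G : ℂ) ≠ 0 := Nat.cast_ne_zero.2 Nat.card_pos.ne'
  have key : ∑ i, ∑ j, ((a i : ℂ) * (a j : ℂ)) * (χ : G → ℂ) (f i * (f j)⁻¹) =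
      ((χ : G → ℂ) 1 / (Nat.card G : ℂ)) *
        ∑ z, (∑ i, (a i : ℂ) * (χ : G → ℂ) (f i * z)) * conj (∑ i, (a i : ℂ) * (χ : G → ℂ) (f i * z)) := by
    simp only [map_sum, map_mul, Complex.conj_ofReal, Finset.sum_mul_sum]
    rw [Finset.sum_comm (s := (Finset.univ : Finset G)), Finset.mul_sum]
    refine Finset.sum_congr rfl fun i _ => ?_
    rw [Finset.sum_comm (s := (Finset.univ : Finset G)), Finset.mul_sum]
    refine Finset.sum_congr rfl fun j _ => ?_
    rw [Finset.sum_congr rfl (fun z _ => show (a i : ℂ) * (χ : G → ℂ) (f i * z) *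
      ((a j : ℂ) * conj ((χ : G → ℂ) (f j * z))) =
      ((a i : ℂ) * (a j : ℂ)) * ((χ : G → ℂ) (f i * z) * conj ((χ : G → ℂ) (f j * z))) by ring),
      ← Finset.mul_sum, sum_conj_mul]
    field_simp
  rw [key, hd.1]
  simp only [Complex.mul_conj]
  rw [← Complex.ofReal_sum, ← Complex.ofReal_natCast, ← Complex.ofReal_natCast, ← Complex.ofReal_div,
    ← Complex.ofReal_mul, Complex.ofReal_re]
  exact mul_nonneg (div_nonneg (Nat.cast_nonneg _) (Nat.cast_nonneg _))
    (Finset.sum_nonneg fun z _ => Complex.normSq_nonneg _)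

/-- The key inequality for a subgroup and a translate. -/
theorem sum_commutator_ge (χ : IrrCharacter G) (H : Subgroup G) [Fintype H] (x : G) :
    (∑ a : H, ∑ b : H, (χ : G → ℂ) ((a : G) * (x * b * x⁻¹))).re ≤
      (Fintype.card H : ℝ) * (∑ a : H, (χ : G → ℂ) ((a : G) * (x * (a : G)⁻¹ * x⁻¹))).re := by
  classical
  have hcl := isClassFunction_char (isCharacter_of_irr χ.2)
  set q : ℝ := (Fintype.card H : ℝ) with hq
  have hq0 : 0 < q := Nat.cast_pos.2 Fintype.card_pos
  set W1 := ∑ a : H, (χ : G → ℂ) ((a : G) * (x * (a : G)⁻¹ * x⁻¹)) with hW1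
  set W2 := ∑ a : H, ∑ b : H, (χ : G → ℂ) ((a : G) * (x * b * x⁻¹)) with hW2
  have h := sum_pair_nonneg χ (Sum.elim (fun _ : H => q) (fun _ : H × H => (-1 : ℝ)))
    (Sum.elim (fun a : H => (a : G) * x * (a : G)⁻¹) (fun ab : H × H => (ab.1 : G) * x * ab.2))
  simp only [Fintype.sum_sum_type, Sum.elim_inl, Sum.elim_inr, Finset.sum_add_distrib] at h
  have e11 : ∑ a : H, ∑ b : H, (χ : G → ℂ) ((a : G) * x * (a : G)⁻¹ * ((b : G) * x * (b : G)⁻¹)⁻¹) =
      (Fintype.card H : ℂ) * W1 := by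
    rw [Finset.sum_comm, ← nsmul_eq_mul, ← Finset.card_univ, ← Finset.sum_const]
    refine Finset.sum_congr rfl fun b _ => ?_
    refine Fintype.sum_equiv (Equiv.mulLeft b⁻¹) _ _ fun a => ?_
    simp only [Equiv.coe_mulLeft, Subgroup.coe_mul, Subgroup.coe_inv]
    rw [← hcl ((a : G) * x * (a : G)⁻¹ * ((b : G) * x * (b : G)⁻¹)⁻¹) (b : G)⁻¹]
    congr 1
    group
  have hfix : ∀ (a c d : H), (χ : G → ℂ) ((a : G) * x * (a : G)⁻¹ * ((c : G) * x * d)⁻¹) =
      (χ : G → ℂ) (((c : G)⁻¹ * a) * (x * ((a : G)⁻¹ * (d : G)⁻¹) * x⁻¹)) := fun a c d => by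
    rw [← hcl ((a : G) * x * (a : G)⁻¹ * ((c : G) * x * d)⁻¹) (c : G)⁻¹]
    congr 1
    group
  have e12 : ∑ a : H, ∑ cd : H × H, (χ : G → ℂ) ((a : G) * x * (a : G)⁻¹ * ((cd.1 : G) * x * cd.2)⁻¹) =
      (Fintype.card H : ℂ) * W2 := by
    rw [← nsmul_eq_mul, ← Finset.card_univ, ← Finset.sum_const]
    refine Finset.sum_congr rfl fun a _ => ?_
    rw [hW2, ← Fintype.sum_prod_type' (f := fun u v : H => (χ : G → ℂ) ((u : G) * (x * v * x⁻¹)))]
    refine Fintype.sum_equiv (((Equiv.inv H).trans (Equiv.mulRight a)).prodCongr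
      ((Equiv.inv H).trans (Equiv.mulLeft a⁻¹))) _ _ fun cd => ?_
    rw [hfix]
    simp [Equiv.prodCongr_apply, mul_assoc]
  have e21 : ∑ cd : H × H, ∑ a : H, (χ : G → ℂ) ((cd.1 : G) * x * cd.2 * ((a : G) * x * (a : G)⁻¹)⁻¹) =
      conj ((Fintype.card H : ℂ) * W2) := by
    rw [← e12, map_sum, Finset.sum_comm]
    refine Finset.sum_congr rfl fun a _ => ?_
    rw [map_sum]
    refine Finset.sum_congr rfl fun cd _ => ?_
    rw [← char_apply_inv (isCharacter_of_irr χ.2)]
    congr 1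
    group
  have e22 : ∑ ab : H × H, ∑ cd : H × H,
      (χ : G → ℂ) ((ab.1 : G) * x * ab.2 * ((cd.1 : G) * x * cd.2)⁻¹) =
      (Fintype.card H : ℂ) * (Fintype.card H : ℂ) * W2 := by
    rw [Finset.sum_comm, ← Nat.cast_mul, ← Fintype.card_prod, ← nsmul_eq_mul, ← Finset.card_univ,
      ← Finset.sum_const]
    refine Finset.sum_congr rfl fun cd _ => ?_
    rw [hW2, ← Fintype.sum_prod_type' (f := fun u v : H => (χ : G → ℂ) ((u : G) * (x * v * x⁻¹)))]
    refine Fintype.sum_equiv ((Equiv.mulLeft cd.1⁻¹).prodCongr (Equiv.mulRight cd.2⁻¹)) _ _ fun ab => ?_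
    simp only [Equiv.prodCongr_apply, Prod.map, Equiv.coe_mulLeft, Equiv.coe_mulRight,
      Subgroup.coe_mul, Subgroup.coe_inv]
    rw [← hcl ((ab.1 : G) * x * ab.2 * ((cd.1 : G) * x * cd.2)⁻¹) (cd.1 : G)⁻¹]
    congr 1
    group
  simp only [← Finset.mul_sum, e11, e12, e21, e22] at h
  simp [hq, Complex.add_re, Complex.mul_re] at h
  have : 0 ≤ q * q * (q * W1.re - W2.re) := by nlinarith [h]
  nlinarith [mul_pos hq0 hq0]

/-- A character of the principal block is constant on `x · O_{p'}(C(x))`. -/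
theorem value_core (hM : IsPModular p M) {χ : IrrCharacter G} (hχ : χ ∈ principalBlock M G) {u c : G}
    (hu : ∃ k : ℕ, orderOf u = p ^ k)
    (hc' : c ∈ (pPrimeCore p ↥(Subgroup.centralizer ({u} : Set G))).map
      (Subgroup.centralizer ({u} : Set G)).subtype) :
    (χ : G → ℂ) (u * c) = (χ : G → ℂ) u := by
  classical
  set H := Subgroup.centralizer ({u} : Set G) with hH
  letI : Fintype H := Fintype.ofFinite _
  obtain ⟨d, hd', rfl⟩ := hc'
  have hp := hM.1
  have hdr : ¬ p ∣ orderOf d := fun hd => CfsgLib.not_dvd_card_pPrimeCore hp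
    (hd.trans (Subgroup.orderOf_dvd_natCard _ hd'))
  have h := fun (y : H) (hy : ¬ p ∣ orderOf y) =>
    sec_eq_overBlocks hM (isCentr_singleton u) hu principalBlock_isPBlock χ (y := y) hy
  simp only [overBlocks_principal hM (isCentr_singleton u) hu, ind_of_mem hχ, one_mul] at h
  have e1 := h d hdr
  have e2 := h 1 (by simp [hp.ne_one])
  rw [Subgroup.coe_one, mul_one] at e2
  show (χ : G → ℂ) (u * (d : G)) = _
  rw [← e1, ← e2, blockPart_apply, blockPart_apply]
  refine Finset.sum_congr rfl fun ψ hψ => ?_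
  congr 1
  exact principal_kernel hM (CfsgLib.not_dvd_card_pPrimeCore hp) (mem_bset.1 hψ) hd'

/-- Characters of the principal block on two non-conjugate `p`-elements are orthogonal. -/
theorem sum_orth (hM : IsPModular p M) {u v : G} (hu : ∃ k : ℕ, orderOf u = p ^ k)
    (hv : ∃ k : ℕ, orderOf v = p ^ k) (hne : ¬ IsConj u v) :
    ∑ χ ∈ bset (principalBlock M G), (χ : G → ℂ) u * conj ((χ : G → ℂ) v) = 0 := by
  classical
  have hp := hM.1
  set H := Subgroup.centralizer ({u} : Set G)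
  letI : Fintype H := Fintype.ofFinite _
  have h1 : ¬ p ∣ orderOf (1 : H) := by simp [hp.ne_one]
  have hU : ∀ ψ ∈ principalBlock M H, blockOf M (ψ : H → ℂ) ⊆ principalBlock M H := fun ψ hψ => by
    rw [← eq_blockOf hM principalBlock_isPBlock hψ]
  rw [← sum_ind_mul, Finset.sum_congr rfl (g := fun χ : IrrCharacter G =>
    blockPart (principalBlock M H) (sec u H (χ : G → ℂ)) (1 : H) * conj ((χ : G → ℂ) v)) fun χ _ => by
      rw [← overBlocks_principal hM (isCentr_singleton u) hu,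
        sec_eq_overBlocks hM (isCentr_singleton u) hu principalBlock_isPBlock χ h1,
        Subgroup.coe_one, mul_one, mul_assoc]]
  simp only [blockPart_regular hM hU _ h1, Finset.mul_sum, Finset.sum_mul]
  rw [Finset.sum_comm]
  refine Finset.sum_eq_zero fun c hc => ?_
  rw [Finset.sum_comm]
  refine Finset.sum_eq_zero fun ψ _ => ?_
  have hz : ∑ χ : IrrCharacter G, (χ : G → ℂ) (u * (c : G)) * conj ((χ : G → ℂ) v) = 0 := by
    rw [sum_irr_mul_conj, if_neg]
    intro hconj
    obtain ⟨y, hy⟩ := isConj_iff.1 hconj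
    have hcr := (Finset.mem_filter.1 hc).2
    refine hne (isConj_iff.2 ⟨y, ?_⟩)
    have hcm : Commute (y * u * y⁻¹) (y * (c : G) * y⁻¹) :=
      (show Commute u (c : G) from (Subgroup.mem_centralizer_singleton_iff.1 c.2).symm).map
        (MulAut.conj y).toMonoidHom
    exact (pPart_unique hp hcm (Commute.one_right v)
      (hu.imp fun k hk => by rw [conj_orderOf, hk]) hv
      (by rw [conj_orderOf, Subgroup.orderOf_coe]; exact hcr) (by simp [hp.ne_one])
      (by rw [mul_one, ← hy]; group)).1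
  calc _ = (Nat.card H : ℂ)⁻¹ * ((ψ : H → ℂ) 1 * (ψ : H → ℂ) c⁻¹) *
        ∑ χ : IrrCharacter G, (χ : G → ℂ) (u * (c : G)) * conj ((χ : G → ℂ) v) := by
        rw [Finset.mul_sum]
        exact Finset.sum_congr rfl fun χ _ => by simp only [sec]; ring
    _ = 0 := by rw [hz, mul_zero]

/-- The sum of the squared degrees in the principal block of a subgroup. -/
noncomputable def blockSq (M : Ideal AlgInt) (U : Subgroup G) : ℕ :=
  letI : Fintype U := Fintype.ofFinite _
  ∑ ψ ∈ bset (principalBlock M U), charDegree (ψ : U → ℂ) * charDegree (ψ : U → ℂ)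

/-- The norm of the principal block on a section. -/
theorem sum_norm (hM : IsPModular p M) {u : G} (hu : ∃ k : ℕ, orderOf u = p ^ k) :
    ∑ χ ∈ bset (principalBlock M G), (χ : G → ℂ) u * conj ((χ : G → ℂ) u) =
      (blockSq M (Subgroup.centralizer ({u} : Set G)) : ℂ) := by
  classical
  set H := Subgroup.centralizer ({u} : Set G)
  letI : Fintype H := Fintype.ofFinite _
  have h := sum_sq_section hM (isCentr_singleton u) hu principalBlock_isPBlock
    (y := (1 : H)) (y' := 1) (by simp [hM.1.ne_one]) (by simp [hM.1.ne_one])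
  rw [overBlocks_principal hM (isCentr_singleton u) hu] at h
  simp only [Subgroup.coe_one, mul_one] at h
  rw [h, blockSq, Nat.cast_sum]
  refine Finset.sum_congr rfl fun ψ _ => ?_
  rw [(charDegree_spec' ψ.2).1, Complex.conj_natCast, Nat.cast_mul]

/-- The squared-degree sum is positive. -/
theorem blockSq_pos (hM : IsPModular p M) (U : Subgroup G) : 0 < blockSq M U := by
  classical
  letI : Fintype U := Fintype.ofFinite _
  unfold blockSq
  refine lt_of_lt_of_le ?_ (Finset.single_le_sum (f := fun ψ : IrrCharacter U =>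
    charDegree (ψ : U → ℂ) * charDegree (ψ : U → ℂ)) (fun _ _ => Nat.zero_le _)
    (mem_bset.2 (oneIrr_mem hM)))
  exact Nat.mul_pos (charDegree_spec' (oneIrr U).2).2 (charDegree_spec' (oneIrr U).2).2

/-- The squared-degree sum is divisible by the order of every `p`-subgroup. -/
theorem dvd_blockSq (hM : IsPModular p M) {U Q : Subgroup G} (hQ : IsPGroup p Q) (hQU : Q ≤ U) :
    Nat.card Q ∣ blockSq M U := by
  classical
  haveI : Fact p.Prime := ⟨hM.1⟩
  letI : Fintype U := Fintype.ofFinite _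
  set Q' := Q.subgroupOf U with hQ'
  letI : Fintype Q' := Fintype.ofFinite _
  choose n hn using fun ψ : IrrCharacter U => classInner_char_nat
    (isCharacter_restrict (isCharacter_of_irr ψ.2) Q') (isCharacter_one (G := Q'))
  refine ⟨∑ ψ ∈ bset (principalBlock M U), charDegree (ψ : U → ℂ) * n ψ, ?_⟩
  have key : ∑ a : Q', ∑ ψ ∈ bset (principalBlock M U), (ψ : U → ℂ) 1 * (ψ : U → ℂ) (a : U) =
      ∑ ψ ∈ bset (principalBlock M U), (ψ : U → ℂ) 1 * (ψ : U → ℂ) 1 := by
    rw [Finset.sum_eq_single_of_mem (1 : Q') (Finset.mem_univ _) fun a _ ha => ?_]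
    · rfl
    refine weak_orth hM principalBlock_isPBlock (by simp [hM.1.ne_one]) ?_
    obtain ⟨k, hk⟩ := IsPGroup.iff_orderOf.1
      (hQ.of_equiv (Subgroup.subgroupOfEquivOfLe hQU).symm) a
    rw [Subgroup.orderOf_coe, hk]
    exact dvd_pow_self p fun e => ha (orderOf_eq_one_iff.1 (by rw [hk, e, pow_zero]))
  have hcard : Nat.card Q = Nat.card Q' :=
    (Nat.card_congr (Subgroup.subgroupOfEquivOfLe hQU).toEquiv).symm
  apply Nat.cast_injective (R := ℂ)
  rw [Nat.cast_mul, blockSq, Nat.cast_sum, Nat.cast_sum, Finset.mul_sum, hcard]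
  rw [Finset.sum_comm] at key
  simp only [← Finset.mul_sum] at key
  refine (Finset.sum_congr rfl fun ψ _ => ?_).trans (key.symm.trans (Finset.sum_congr rfl fun ψ _ => ?_))
  · rw [Nat.cast_mul, (charDegree_spec' ψ.2).1]
  · have e := hn ψ
    unfold classInner at e
    rw [inv_mul_eq_iff_eq_mul₀ (Nat.cast_ne_zero.2 Nat.card_pos.ne')] at e
    simp only [map_one, mul_one] at e
    rw [e, (charDegree_spec' ψ.2).1]
    push_cast
    ring

end CfsgLib.ExtClosed
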