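import Cfsg.Agent.Lib.ExtremelyClosed.Descent
import Cfsg.Agent.Lib.ExtremelyClosed.Chars
import Cfsg.Agent.Lib.CharTheory.Linear
import Cfsg.Agent.Lib.CharTheory.Schur
import Cfsg.Agent.Lib.CharTheory.Integral

/-!
# Extremely closed abelian `p`-subgroups: the counting argument in the principal block
-/

set_option autoImplicit false
set_option linter.style.haveILetI false

universe u

namespace CfsgLib.ExtClosed

open Cfsg CfsgLib.CharTheory CfsgLib.Blocks
open scoped ComplexConjugate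

variable {G : Type u} [Group G] [Fintype G] {p : ℕ} [Fact p.Prime] {H : Subgroup G}
  {M : Ideal AlgInt}

/-- The nontrivial elements of `H`. -/
noncomputable def sharp (H : Subgroup G) : Finset G :=
  letI := Classical.decEq G
  letI := Classical.decPred fun a => a ∈ H ∧ a ≠ 1
  Finset.univ.filter fun a => a ∈ H ∧ a ≠ 1

omit [Fact p.Prime] in
theorem mem_sharp {a : G} : a ∈ sharp H ↔ a ∈ H ∧ a ≠ 1 := by
  simp [sharp]

theorem sum_coe_eq [Fintype H] (f : G → ℂ) : ∑ a : H, f a = f 1 + ∑ a ∈ sharp H, f a := by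
  classical
  rw [← Finset.add_sum_erase Finset.univ (fun a : H => f (a : G)) (Finset.mem_univ (1 : H))]
  congr 1
  refine Finset.sum_bij (fun a _ => (a : G)) (fun a ha => ?_) (fun a _ b _ h => Subtype.ext h)
    (fun b hb => ?_) (fun a _ => rfl)
  · exact mem_sharp.2 ⟨a.2, fun e => (Finset.mem_erase.1 ha).1 (Subtype.ext e)⟩
  · obtain ⟨h1, h2⟩ := mem_sharp.1 hb
    exact ⟨⟨b, h1⟩, Finset.mem_erase.2 ⟨fun e => h2 (congrArg Subtype.val e), Finset.mem_univ _⟩, rfl⟩

theorem card_sharp_add_one (H : Subgroup G) : (sharp H).card + 1 = Nat.card H := by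
  classical
  letI : Fintype H := Fintype.ofFinite _
  have h := sum_coe_eq (H := H) (fun _ => (1 : ℂ))
  simp only [Finset.sum_const, Finset.card_univ, nsmul_eq_mul, mul_one] at h
  rw [Nat.card_eq_fintype_card]
  exact_mod_cast (show ((sharp H).card : ℂ) + 1 = (Fintype.card H : ℂ) by rw [h]; ring)

theorem orderOf_pow_of_mem (h : Hyp p H) {a : G} (ha : a ∈ H) : ∃ k : ℕ, orderOf a = p ^ k := by
  obtain ⟨k, hk⟩ := IsPGroup.iff_orderOf.1 h.isP ⟨a, ha⟩
  exact ⟨k, by rwa [Subgroup.orderOf_mk] at hk⟩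

theorem dvd_orderOf_of_mem_sharp (h : Hyp p H) {a : G} (ha : a ∈ sharp H) : p ∣ orderOf a := by
  obtain ⟨k, hk⟩ := orderOf_pow_of_mem h (mem_sharp.1 ha).1
  rw [hk]
  exact dvd_pow_self p fun e => (mem_sharp.1 ha).2 (orderOf_eq_one_iff.1 (by rw [hk, e, pow_zero]))

/-- Local factorization of the centralizers of the nontrivial elements. -/
def LocalFactor (p : ℕ) (H : Subgroup G) : Prop :=
  ∀ a ∈ H, a ≠ 1 →
    Subgroup.normalizer
        ((H.subgroupOf (Subgroup.centralizer ({a} : Set G)) :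
          Subgroup (Subgroup.centralizer ({a} : Set G))) : Set (Subgroup.centralizer ({a} : Set G))) ⊔
      pPrimeCore p (Subgroup.centralizer ({a} : Set G)) = ⊤

/-- The values of the principal block on products of an element and a conjugate. -/
theorem value_pair (h : Hyp p H) (hM : IsPModular p M) (hloc : LocalFactor p H)
    {χ : IrrCharacter G} (hχ : χ ∈ principalBlock M G) {g : G} {K : Subgroup G}
    (hKp : ¬ p ∣ Nat.card K) (hHK : H ≤ Subgroup.normalizer (K : Set G))
    (hKL : K ≤ pairGroup H g) {v c : G} (hv : v ∈ H) (hv1 : v ≠ 1) (hc : c ∈ K)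
    (hvc : Commute v c) : (χ : G → ℂ) (v * c) = (χ : G → ℂ) v := by
  set C := Subgroup.centralizer ({v} : Set G) with hC
  set O := (pPrimeCore p C).map C.subtype with hO
  have hHC : H ≤ C := fun a ha => Subgroup.mem_centralizer_singleton_iff.2 (h.mul_comm ha hv)
  have hOn : C ≤ Subgroup.normalizer (O : Set G) := by
    have := Subgroup.le_normalizer_map (H := pPrimeCore p C) C.subtype
    rwa [Subgroup.normalizer_eq_top, ← MonoidHom.range_eq_map, Subgroup.range_subtype] at this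
  refine value_core hM hχ (orderOf_pow_of_mem h hv) ?_
  have hle : K ⊓ C ≤ O := by
    refine h.le_of_commutator (g := g) (inf_le_left.trans hKL)
      (fun hd => hKp (hd.trans (Subgroup.card_dvd_of_le inf_le_left))) (fun b hb => ?_)
      (hHC.trans hOn) fun d hd b hb => ?_
    · rw [Subgroup.mem_normalizer_iff]
      intro d
      exact and_congr (Subgroup.mem_normalizer_iff.1 (hHK hb) d)
        (Subgroup.mem_normalizer_iff.1 (Subgroup.le_normalizer (hHC hb)) d)
    · have hdtop : (⟨d, hd.2⟩ : C) ∈ Subgroup.normalizer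
          ((H.subgroupOf C : Subgroup C) : Set C) ⊔ pPrimeCore p C :=
        (hloc v hv hv1).symm ▸ Subgroup.mem_top _
      obtain ⟨n, hn, o, ho, e⟩ := Subgroup.mem_sup_of_normal_right.1 hdtop
      obtain ⟨o', ho', rfl⟩ : ∃ o' ∈ O, o' = (o : G) := ⟨_, ⟨o, ho, rfl⟩, rfl⟩
      have hde : d = (n : G) * o := (congrArg Subtype.val e).symm
      have hnb : (n : G) * b * (n : G)⁻¹ ∈ H := Subgroup.mem_subgroupOf.1
        ((Subgroup.mem_normalizer_iff.1 hn ⟨b, hHC hb⟩).1 (Subgroup.mem_subgroupOf.2 hb))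
      have hq : (o : G) * b * (o : G)⁻¹ * b⁻¹ ∈ O := by
        rw [show (o : G) * b * (o : G)⁻¹ * b⁻¹ = o * (b * (o : G)⁻¹ * b⁻¹) by group]
        exact O.mul_mem ho' ((Subgroup.mem_normalizer_iff.1 (hOn (hHC hb)) _).1 (O.inv_mem ho'))
      rw [show d * b * d⁻¹ * b⁻¹ = ((n : G) * ((o : G) * b * (o : G)⁻¹ * b⁻¹) * (n : G)⁻¹) *
        ((n : G) * b * (n : G)⁻¹) * b⁻¹ by rw [hde]; group]
      exact mul_mem (mul_mem
        (Subgroup.mem_sup_right ((Subgroup.mem_normalizer_iff.1 (hOn n.2) _).1 hq))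
        (Subgroup.mem_sup_left hnb)) (Subgroup.mem_sup_left (H.inv_mem hb))
  exact hle ⟨hc, Subgroup.mem_centralizer_singleton_iff.2 hvc.symm.eq⟩

/-- The sum of a character over the nontrivial elements of `H`. -/
noncomputable def restSum (H : Subgroup G) (χ : IrrCharacter G) : ℂ :=
  ∑ a ∈ sharp H, (χ : G → ℂ) a

theorem exists_int_restSum (H : Subgroup G) (χ : IrrCharacter G) :
    ∃ D : ℤ, restSum H χ = (D : ℂ) := by
  classical
  letI : Fintype H := Fintype.ofFinite _
  obtain ⟨n, hn⟩ := classInner_char_nat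
    (isCharacter_restrict (isCharacter_of_irr χ.2) H) (isCharacter_one (G := H))
  refine ⟨(Fintype.card H : ℤ) * n - charDegree (χ : G → ℂ), ?_⟩
  unfold classInner at hn
  rw [inv_mul_eq_iff_eq_mul₀ (Nat.cast_ne_zero.2 Nat.card_pos.ne'),
    Nat.card_eq_fintype_card] at hn
  simp only [map_one, mul_one] at hn
  have h' := sum_coe_eq (H := H) (χ : G → ℂ)
  push_cast
  rw [← hn, h', ← (charDegree_spec' χ.2).1, restSum]
  ring

/-- The correction term at a translate. -/
noncomputable def commSum (H : Subgroup G) (χ : IrrCharacter G) (x : G) : ℂ :=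
  ∑ a ∈ sharp H, (χ : G → ℂ) (a * (x * a⁻¹ * x⁻¹))

/-- Splitting of the double sum at a translate. -/
theorem pair_sum (h : Hyp p H) (hM : IsPModular p M) (hloc : LocalFactor p H) (g : G) :
    ∃ x : G, (∀ a ∈ sharp H, ¬ p ∣ orderOf (a * (x * a⁻¹ * x⁻¹))) ∧
      ∀ χ : IrrCharacter G, χ ∈ principalBlock M G →
        (∑ a ∈ sharp H, ∑ b ∈ sharp H, (χ : G → ℂ) (a * (g * b * g⁻¹)) =
          commSum H χ x + ((sharp H).card - 1) * restSum H χ) ∧
        (∑ a ∈ sharp H, ∑ b ∈ sharp H, (χ : G → ℂ) (a * (x * b * x⁻¹)) =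
          commSum H χ x + ((sharp H).card - 1) * restSum H χ) := by
  classical
  obtain ⟨x, hx, hpair⟩ := h.pair_product g
  refine ⟨x, fun a ha => (hpair a (mem_sharp.1 ha).1 _ (H.inv_mem (mem_sharp.1 ha).1)).1
    (mul_inv_cancel a), fun χ hχ => ?_⟩
  have hcl := isClassFunction_char (isCharacter_of_irr χ.2)
  have himg : (sharp H).image (fun b => g⁻¹ * (x * b * x⁻¹) * g) = sharp H := by
    refine Finset.eq_of_subset_of_card_le (fun y hy => ?_) (le_of_eq ?_)
    · obtain ⟨b, hb, rfl⟩ := Finset.mem_image.1 hy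
      obtain ⟨hbH, hb1⟩ := mem_sharp.1 hb
      obtain ⟨k, hk, hke⟩ := hx b hbH
      have e : g⁻¹ * (x * b * x⁻¹) * g = k := by rw [← hke]; group
      rw [e]
      refine mem_sharp.2 ⟨hk, fun k1 => hb1 ?_⟩
      rw [k1, mul_one, mul_inv_cancel, eq_comm, mul_inv_eq_one] at hke
      simpa using hke
    · rw [Finset.card_image_of_injective]
      intro a b hab
      simpa using hab
  have hsum : ∀ a : G, ∑ b ∈ sharp H, (χ : G → ℂ) (a * (g * b * g⁻¹)) =
      ∑ b ∈ sharp H, (χ : G → ℂ) (a * (x * b * x⁻¹)) := fun a => by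
    conv_lhs => rw [← himg]
    rw [Finset.sum_image fun b _ c _ hbc => by simpa using hbc]
    refine Finset.sum_congr rfl fun b _ => ?_
    congr 1; group
  have hmain : ∑ a ∈ sharp H, ∑ b ∈ sharp H, (χ : G → ℂ) (a * (x * b * x⁻¹)) =
      commSum H χ x + ((sharp H).card - 1) * restSum H χ := by
    have hrow : ∀ a ∈ sharp H, ∑ b ∈ sharp H, (χ : G → ℂ) (a * (x * b * x⁻¹)) =
        (χ : G → ℂ) (a * (x * a⁻¹ * x⁻¹)) + (restSum H χ - (χ : G → ℂ) a) := by
      intro a ha
      obtain ⟨haH, ha1⟩ := mem_sharp.1 ha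
      have hinv : a⁻¹ ∈ sharp H := mem_sharp.2 ⟨H.inv_mem haH, inv_ne_one.2 ha1⟩
      rw [← Finset.add_sum_erase _ _ hinv]
      congr 1
      rw [restSum, ← Finset.sum_erase_eq_sub ha]
      refine Finset.sum_nbij' (a * ·) (a⁻¹ * ·) (fun b hb => ?_) (fun b hb => ?_)
        (fun b _ => by simp) (fun b _ => by simp) (fun b hb => ?_)
      · obtain ⟨hb1, hb2⟩ := Finset.mem_erase.1 hb
        obtain ⟨hbH, hbne⟩ := mem_sharp.1 hb2
        refine Finset.mem_erase.2 ⟨fun e => hbne (by simpa using e), mem_sharp.2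
          ⟨H.mul_mem haH hbH, fun e => hb1 (eq_inv_of_mul_eq_one_right e)⟩⟩
      · obtain ⟨hb1, hb2⟩ := Finset.mem_erase.1 hb
        obtain ⟨hbH, hbne⟩ := mem_sharp.1 hb2
        refine Finset.mem_erase.2 ⟨fun e => hbne (by simpa using e), mem_sharp.2
          ⟨H.mul_mem (H.inv_mem haH) hbH, fun e => hb1 ?_⟩⟩
        exact (inv_mul_eq_one.1 e).symm
      · obtain ⟨hb1, hb2⟩ := Finset.mem_erase.1 hb
        obtain ⟨hbH, hbne⟩ := mem_sharp.1 hb2
        have hab : a * b ≠ 1 := fun e => hb1 (eq_inv_of_mul_eq_one_right e)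
        obtain ⟨-, K, hKp, hHK, hKL, c, hc, hcom, y, hy⟩ := (hpair a haH b hbH).2 hab
        rw [← hcl (a * (x * b * x⁻¹)) y, hy]
        exact value_pair h hM hloc hχ hKp hHK hKL (H.mul_mem haH hbH) hab hc hcom
    rw [Finset.sum_congr rfl hrow, Finset.sum_add_distrib, Finset.sum_sub_distrib, Finset.sum_const,
      nsmul_eq_mul, commSum, restSum]
    ring
  exact ⟨by rw [Finset.sum_congr rfl fun a _ => hsum a, hmain], hmain⟩

/-- The bound on the rest sum of a nontrivial character. -/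
theorem restSum_lt (H : Subgroup G) (hnc : Subgroup.normalClosure (H : Set G) = ⊤)
    {χ : IrrCharacter G} (hχ : χ ≠ oneIrr G) :
    (restSum H χ).re < (sharp H).card * (charDegree (χ : G → ℂ) : ℝ) := by
  classical
  have hc := isCharacter_of_irr χ.2
  have hle : ∀ a : G, ‖(χ : G → ℂ) a‖ ≤ (charDegree (χ : G → ℂ) : ℝ) := fun a =>
    (norm_char_le hc a).trans_eq (norm_one_eq_charDegree χ.2)
  have hre : ∀ a : G, ((χ : G → ℂ) a).re ≤ (charDegree (χ : G → ℂ) : ℝ) := fun a =>
    (Complex.re_le_norm _).trans (hle a)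
  rw [restSum, Complex.re_sum, ← nsmul_eq_mul, ← Finset.sum_const]
  refine Finset.sum_lt_sum (fun a _ => hre a) ?_
  by_contra hcon
  push_neg at hcon
  refine hχ (Subtype.ext ?_)
  have hker : H ≤ charKernel (χ : G → ℂ) hc := fun a ha => by
    rw [mem_charKernel, (charDegree_spec' χ.2).1]
    rcases eq_or_ne a 1 with rfl | ha1
    · exact (charDegree_spec' χ.2).1
    have h1 := le_antisymm (hre a) (hcon a (mem_sharp.2 ⟨ha, ha1⟩))
    have h2 := hle a
    have h3 := Complex.normSq_eq_norm_sq ((χ : G → ℂ) a)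
    rw [Complex.normSq_apply] at h3
    apply Complex.ext
    · simpa using h1
    · have : ((χ : G → ℂ) a).im * ((χ : G → ℂ) a).im = 0 := by
        have h4 : ‖(χ : G → ℂ) a‖ ^ 2 ≤ (charDegree (χ : G → ℂ) : ℝ) ^ 2 :=
          pow_le_pow_left₀ (norm_nonneg _) h2 2
        rw [h1] at h3
        nlinarith [mul_self_nonneg ((χ : G → ℂ) a).im]
      simpa using this
  haveI := charKernel_normal (χ : G → ℂ) hc
  have htop : charKernel (χ : G → ℂ) hc = ⊤ :=
    eq_top_iff.2 (hnc ▸ Subgroup.normalClosure_le_normal hker)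
  exact irr_eq_one_of_kernel_top χ.2 fun g => (mem_charKernel hc g).1 (htop ▸ Subgroup.mem_top g)

end CfsgLib.ExtClosed
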