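import Cfsg.Agent.Lib.ExtremelyClosed.Invariant
import Cfsg.Agent.Lib.CharTheory.ExtCriteria

/-!
# Values of an extended character at a coprime operator
-/

set_option autoImplicit false
set_option linter.style.haveILetI false

universe u

namespace CfsgLib.ExtClosed

open Cfsg CfsgLib.CharTheory CfsgLib.Glauberman CfsgLib.Glauberman.Cyclic
open scoped commutatorElement

variable {G : Type u} [Group G] [Finite G]

omit [Finite G] in
theorem map_commutator_subgroupOf {U T H : Subgroup G} (hT : T ≤ U) (hH : H ≤ U) :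
    (⁅T.subgroupOf U, H.subgroupOf U⁆).map U.subtype = ⁅T, H⁆ := by
  rw [Subgroup.map_commutator, Subgroup.map_subgroupOf_eq_of_le hT,
    Subgroup.map_subgroupOf_eq_of_le hH]

omit [Finite G] in
theorem mem_commutator_subgroupOf {U T H : Subgroup G} (hT : T ≤ U) (hH : H ≤ U) {x : U} :
    x ∈ ⁅T.subgroupOf U, H.subgroupOf U⁆ ↔ (x : G) ∈ ⁅T, H⁆ := by
  rw [← map_commutator_subgroupOf hT hH]
  exact (Subgroup.mem_map_iff_mem U.subtype_injective).symm

/-- The section of a canonical extension at an operator is irreducible up to a sign. -/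
theorem section_value {T H : Subgroup G} [T.Normal] (hcop : (Nat.card T).Coprime (Nat.card H))
    {θ : IrrCharacter T} {χ : G → ℂ} (hχ : IsCanon T H (θ : T → ℂ) χ) {u : G} (hu : u ∈ H) :
    ∃ (β : IrrCharacter ↥(T ⊓ Subgroup.centralizer ({u} : Set G))) (ε : ℂ), ε ≠ 0 ∧
      ∀ d : ↥(T ⊓ Subgroup.centralizer ({u} : Set G)), χ ((d : G) * u) = ε * (β : _ → ℂ) d := by
  classical
  set Z := Subgroup.zpowers u with hZ
  have hZH : Z ≤ H := Subgroup.zpowers_le.2 hu
  set U := T ⊔ Z with hU
  have hTU : T ≤ U := le_sup_left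
  have hZU : Z ≤ U := le_sup_right
  set T' := T.subgroupOf U with hT'
  set S' := Z.subgroupOf U with hS'
  haveI : T'.Normal := Subgroup.normal_subgroupOf
  letI : Fintype G := Fintype.ofFinite G
  letI : Fintype U := Fintype.ofFinite _
  letI : Fintype T' := Fintype.ofFinite _
  let e : T' ≃* T := Subgroup.subgroupOfEquivOfLe hTU
  let θ' : IrrCharacter T' := ⟨fun t => (θ : T → ℂ) (e t),
    isIrrCharacter_comp_surjective θ.2 e.toMonoidHom e.surjective⟩
  have hcopZ : (Nat.card T).Coprime (Nat.card Z) := hcop.coprime_dvd_right (Subgroup.card_dvd_of_le hZH)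
  have hD : Cyclic.Data T' S' := by
    refine Cyclic.mk_data T' S' (fun s _ g hg => (inferInstance : T'.Normal).conj_mem g hg s) ?_ ?_ ?_
    · rw [Nat.card_congr (Subgroup.subgroupOfEquivOfLe hTU).toEquiv,
        Nat.card_congr (Subgroup.subgroupOfEquivOfLe hZU).toEquiv]
      exact hcopZ
    · rw [← Subgroup.subgroupOf_sup hTU hZU, Subgroup.subgroupOf_self]
    · exact isCyclic_of_surjective (Subgroup.subgroupOfEquivOfLe hZU).symm
        (Subgroup.subgroupOfEquivOfLe hZU).symm.surjective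
  set a : U → ℂ := fun x => χ x with ha
  have hext : ∀ t : T', a t = (θ' : T' → ℂ) t := fun t => hχ.2.1 (e t)
  have hcanon : Cyclic.IsCanon T' S' (θ' : T' → ℂ) a := by
    obtain ⟨n, R, hR⟩ := isCharacter_restrict (isCharacter_of_irr hχ.1) U
    refine ⟨?_, hext, fun t => ?_⟩
    · show IsIrrCharacter U (fun x : U => χ x)
      rw [← hR]
      exact irr_of_extends θ'.2 R fun t => (congrFun hR t).trans (hext t)
    · have h1 := Cyclic.detChar_comp (isCharacter_of_irr hχ.1) U.subtype (t : U)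
      rw [show a = fun x : U => χ (U.subtype x) from rfl, h1]
      exact hχ.2.2 ⟨((t : U) : G), hZH (Subgroup.mem_subgroupOf.1 t.2)⟩
  set s : U := ⟨u, hZU (Subgroup.mem_zpowers u)⟩ with hs
  have hsS : Subgroup.zpowers s = S' := by
    apply Subgroup.map_injective U.subtype_injective
    rw [MonoidHom.map_zpowers, Subgroup.map_subgroupOf_eq_of_le hZU]
    rfl
  set C' := T' ⊓ Subgroup.centralizer (S' : Set U) with hC'
  letI : Fintype C' := Fintype.ofFinite _
  obtain ⟨β, ε, hε, hβ⟩ := Cyclic.exists_correspondent hD hC' hsS θ' hcanon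
  set D := T ⊓ Subgroup.centralizer ({u} : Set G) with hDdef
  have hiff : ∀ x : U, x ∈ C' ↔ (x : G) ∈ D := by
    intro x
    constructor
    · intro hx
      refine ⟨Subgroup.mem_subgroupOf.1 hx.1, Subgroup.mem_centralizer_singleton_iff.2 ?_⟩
      exact congrArg Subtype.val
        (Subgroup.mem_centralizer_iff.1 hx.2 s (hsS ▸ Subgroup.mem_zpowers s)).symm
    · intro hx
      refine ⟨Subgroup.mem_subgroupOf.2 hx.1, Subgroup.mem_centralizer_iff.2 fun y hy => ?_⟩
      obtain ⟨i, rfl⟩ := Subgroup.mem_zpowers_iff.1 (hsS.symm ▸ hy : y ∈ Subgroup.zpowers s)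
      have hc : Commute x s := Subtype.ext (Subgroup.mem_centralizer_singleton_iff.1 hx.2)
      exact (hc.zpow_right i).symm
  let f : D ≃* C' :=
    { toFun := fun d => ⟨⟨d, hTU d.2.1⟩, (hiff _).2 d.2⟩
      invFun := fun c => ⟨((c : U) : G), (hiff _).1 c.2⟩
      left_inv := fun d => rfl
      right_inv := fun c => rfl
      map_mul' := fun _ _ => rfl }
  refine ⟨⟨fun d => (β : C' → ℂ) (f d),
    isIrrCharacter_comp_surjective β.2 f.toMonoidHom f.surjective⟩, (ε : ℂ),
    by rcases hε with rfl | rfl <;> norm_num, fun d => ?_⟩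
  exact hβ s hsS (f d)

/-- The invariant section kills the commutators of the fixed points. -/
theorem section_const {T H : Subgroup G} [T.Normal] (hcop : (Nat.card T).Coprime (Nat.card H))
    (hcomm : ∀ a ∈ H, ∀ b ∈ H, a * b = b * a) {θ : IrrCharacter T} {χ : G → ℂ}
    (hχ : IsCanon T H (θ : T → ℂ) χ) {u : G} (hu : u ∈ H)
    (hY : ∀ c ∈ ⁅T ⊓ Subgroup.centralizer ({u} : Set G), H⁆,
      c ∈ Subgroup.centralizer (H : Set G) → c = 1)
    {c : G} (hc : c ∈ ⁅T ⊓ Subgroup.centralizer ({u} : Set G), H⁆) : χ (c * u) = χ u := by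
  classical
  set D := T ⊓ Subgroup.centralizer ({u} : Set G) with hDdef
  obtain ⟨β, ε, hε, hβ⟩ := section_value hcop hχ hu
  have hcl := isClassFunction_irr hχ.1
  have hfix : ∀ h ∈ H, h * u * h⁻¹ = u := fun h hh => by
    rw [hcomm h hh u hu, mul_inv_cancel_right]
  have hHD : H ≤ Subgroup.normalizer (D : Set G) := by
    have h1 : ∀ h ∈ H, ∀ d ∈ D, h * d * h⁻¹ ∈ D := fun h hh d hd => by
      refine ⟨(inferInstance : T.Normal).conj_mem d hd.1 h, Subgroup.mem_centralizer_singleton_iff.2 ?_⟩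
      have hhC : h ∈ Subgroup.centralizer ({u} : Set G) :=
        Subgroup.mem_centralizer_singleton_iff.2 (hcomm h hh u hu)
      exact Subgroup.mem_centralizer_singleton_iff.1 (mul_mem (mul_mem hhC hd.2) (inv_mem hhC))
    intro h hh
    refine Subgroup.mem_normalizer_iff.2 fun d => ⟨h1 h hh d, fun hd => ?_⟩
    have := h1 h⁻¹ (H.inv_mem hh) _ hd
    simpa [mul_assoc] using this
  set U := D ⊔ H with hU
  have hDU : D ≤ U := le_sup_left
  have hHU : H ≤ U := le_sup_right
  set D' := D.subgroupOf U with hD'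
  set H' := H.subgroupOf U with hH'
  haveI : D'.Normal := (Subgroup.normal_subgroupOf_iff_le_normalizer hDU).2
    (sup_le Subgroup.le_normalizer hHD)
  let e : D' ≃* D := Subgroup.subgroupOfEquivOfLe hDU
  let β' : IrrCharacter D' := ⟨fun d => (β : D → ℂ) (e d),
    isIrrCharacter_comp_surjective β.2 e.toMonoidHom e.surjective⟩
  have htop : D' ⊔ H' = ⊤ := by
    rw [← Subgroup.subgroupOf_sup hDU hHU, Subgroup.subgroupOf_self]
  have hcop' : (Nat.card D').Coprime (Nat.card H') := by
    rw [Nat.card_congr e.toEquiv, Nat.card_congr (Subgroup.subgroupOfEquivOfLe hHU).toEquiv]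
    exact hcop.coprime_dvd_left (Subgroup.card_dvd_of_le inf_le_left)
  have hsol : Group.IsSolvable H' := Group.isSolvable_of_comm fun a b =>
    Subtype.ext (Subtype.ext (hcomm _ (Subgroup.mem_subgroupOf.1 a.2) _ (Subgroup.mem_subgroupOf.1 b.2)))
  have hinv : ∀ g, conjNormFun D' g (β' : D' → ℂ) = (β' : D' → ℂ) := by
    refine conjNormFun_eq_of_supplement htop (isClassFunction_irr β'.2) fun s hs n n' hn => ?_
    apply mul_left_cancel₀ hε
    show ε * (β : D → ℂ) (e n') = ε * (β : D → ℂ) (e n)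
    rw [← hβ, ← hβ]
    show χ (((n' : U) : G) * u) = χ (((n : U) : G) * u)
    rw [← hcl (((n : U) : G) * u) (s : G)]
    congr 1
    have h1 : ((n' : U) : G) = (s : G) * ((n : U) : G) * (s : G)⁻¹ := by
      rw [hn]; push_cast; rfl
    rw [h1]
    conv_lhs => rw [← hfix _ (Subgroup.mem_subgroupOf.1 hs)]
    group
  have hcD : c ∈ D := CfsgLib.commutator_le_of_le_normalizer hHD hc
  have hkill := (invariant_kills htop hcop' hsol).1 (fun x hx hxC => ?_) β' hinv
    ⟨⟨c, hDU hcD⟩, Subgroup.mem_subgroupOf.2 hcD⟩ ((mem_commutator_subgroupOf hDU hHU).2 hc)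
  · have h2 : (β : D → ℂ) ⟨c, hcD⟩ = (β : D → ℂ) 1 := by
      have h3 : (β' : D' → ℂ) 1 = (β : D → ℂ) 1 := congrArg (β : D → ℂ) (map_one e)
      exact hkill.trans h3
    have h4 := hβ ⟨c, hcD⟩
    rw [h2, ← hβ 1, Subgroup.coe_one, one_mul] at h4
    exact h4
  · refine Subtype.ext (hY _ ((mem_commutator_subgroupOf hDU hHU).1 hx)
      (Subgroup.mem_centralizer_iff.2 fun h hh => ?_))
    exact congrArg Subtype.val
      (Subgroup.mem_centralizer_iff.1 hxC ⟨h, hHU hh⟩ (Subgroup.mem_subgroupOf.2 hh))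

end CfsgLib.ExtClosed
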