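import Cfsg.Agent.Lib.ExtremelyClosed.Factor
import Cfsg.Agent.Lib.ExtremelyClosed.Section

/-!
# Extremely closed abelian `p`-subgroups for odd `p`: fixed points in the commutator
-/

set_option autoImplicit false
set_option linter.style.haveILetI false

universe u

namespace CfsgLib.ExtClosed

open Cfsg CfsgLib.CharTheory CfsgLib.Glauberman CfsgLib.Glauberman.Cyclic
open scoped ComplexConjugate commutatorElement

variable {p : ℕ} [Fact p.Prime]

theorem eq_of_norm_le_of_re_eq {z : ℂ} {r : ℝ} (hn : ‖z‖ ≤ r) (hr : z.re = r) : z = (r : ℂ) := by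
  refine Complex.ext (by simpa using hr) ?_
  have h3 := Complex.normSq_eq_norm_sq z
  rw [Complex.normSq_apply, hr] at h3
  have h4 : ‖z‖ ^ 2 ≤ r ^ 2 := pow_le_pow_left₀ (norm_nonneg _) hn 2
  have : z.im * z.im = 0 := by nlinarith [mul_self_nonneg z.im]
  simpa using this

theorem mul_self_ne_one (hp : p ≠ 2) {G : Type u} [Group G] [Finite G] {H : Subgroup G}
    (h : Hyp p H) {a : G} (ha : a ∈ H) (ha1 : a ≠ 1) : a * a ≠ 1 := by
  intro e
  obtain ⟨k, hk⟩ := IsPGroup.iff_orderOf.1 h.isP ⟨a, ha⟩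
  rw [Subgroup.orderOf_mk] at hk
  have hd : orderOf a ∣ 2 := orderOf_dvd_of_pow_eq_one (by rw [pow_two, e])
  have hpd : p ∣ 2 := (dvd_pow_self p (fun e' => ha1 (orderOf_eq_one_iff.1 (by rw [hk, e', pow_zero])))
    ).trans (hk ▸ hd)
  exact hp ((Nat.prime_dvd_prime_iff_eq Fact.out Nat.prime_two).1 hpd)

/-- The characters over the invariant characters kill `[T, H]`. -/
theorem kills_of_local (hp2 : p ≠ 2) {G : Type u} [Group G] [Finite G] {T H : Subgroup G}
    [T.Normal] (hTH : T ⊔ H = ⊤) (hTp : ¬ p ∣ Nat.card T) (h : Hyp p H) (hH1 : H ≠ ⊥)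
    (hloc : ∀ v ∈ H, v ≠ 1 → ∀ c ∈ ⁅T ⊓ Subgroup.centralizer ({v} : Set G), H⁆,
      c ∈ Subgroup.centralizer (H : Set G) → c = 1)
    {θ : IrrCharacter T} (hθ : ∀ g, conjNormFun T g (θ : T → ℂ) = (θ : T → ℂ))
    (n : T) (hn : (n : G) ∈ ⁅T, H⁆) : (θ : T → ℂ) n = (θ : T → ℂ) 1 := by
  classical
  have hp : p.Prime := Fact.out
  letI : Fintype G := Fintype.ofFinite G
  letI : Fintype H := Fintype.ofFinite _
  have hcomm : ∀ a ∈ H, ∀ b ∈ H, a * b = b * a := fun a ha b hb => h.mul_comm ha hb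
  have hcop : (Nat.card T).Coprime (Nat.card H) := by
    obtain ⟨k, hk⟩ := IsPGroup.iff_card.1 h.isP
    rw [hk]
    exact ((hp.coprime_iff_not_dvd.2 hTp).symm).pow_right k
  have hTN : ∀ x : G, x ∈ Subgroup.normalizer (T : Set G) := fun x => by
    rw [Subgroup.normalizer_eq_top]; exact Subgroup.mem_top x
  have hTH1 : ∀ x ∈ T, x ∈ H → x = 1 := fun x hx hxH => by
    refine orderOf_eq_one_iff.1 (Nat.eq_one_of_dvd_coprimes hcop ?_ ?_)
    · exact Subgroup.orderOf_dvd_natCard T hx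
    · exact Subgroup.orderOf_dvd_natCard H hxH
  have hD : Data T H := ⟨inferInstance, hTH1, hcop, hTH, hcomm⟩
  obtain ⟨χ, hχirr, hext, hdet⟩ := exists_canon hD θ.2 (fun s _ g g' e => by
    have h1 := congrFun (hθ s) g
    show (θ : T → ℂ) g' = _
    rw [show g' = ⟨s * g * s⁻¹, (inferInstance : T.Normal).conj_mem g g.2 s⟩ from Subtype.ext e]
    exact h1)
  have hcanon := isCanon_of_coprime (isCharacter_of_irr θ.2) hχirr hext hdet
  have hc := isCharacter_of_irr hχirr
  have hcl := isClassFunction_irr hχirr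
  set d := charDegree χ with hd
  have hd1 : χ 1 = (d : ℂ) := (charDegree_spec' hχirr).1
  have hd0 : (d : ℂ) ≠ 0 := Nat.cast_ne_zero.2 (charDegree_spec' hχirr).2.ne'
  -- products of an element and a conjugate
  have hval : ∀ a ∈ H, ∀ k ∈ H, a * k ≠ 1 → ∀ g : G, χ (a * (g * k * g⁻¹)) = χ (a * k) := by
    intro a ha k hk hak g
    obtain ⟨x, hx, hpair⟩ := h.pair_product g
    obtain ⟨k', hk', hke⟩ := hx k hk
    have hmod : ∀ y : G, ∀ b ∈ H, y * b * y⁻¹ * b⁻¹ ∈ T := fun y b hb => by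
      obtain ⟨t, ht, s, hs, rfl⟩ : ∃ t ∈ T, ∃ s ∈ H, t * s = y :=
        CfsgLib.mem_sup_of_le_normalizer (fun z _ => hTN z) (hTH.symm ▸ Subgroup.mem_top y)
      rw [show t * s * b * (t * s)⁻¹ * b⁻¹ = t * ((s * b * s⁻¹) * t⁻¹ * b⁻¹) by group,
        hcomm s hs b hb, mul_inv_cancel_right]
      exact T.mul_mem ht ((inferInstance : T.Normal).conj_mem _ (T.inv_mem ht) b)
    have hkk : k' = k := by
      refine mul_inv_eq_one.1 (hTH1 _ ?_ (H.mul_mem hk' (H.inv_mem hk)))
      have e : k' * k⁻¹ = (g * k' * g⁻¹ * k'⁻¹)⁻¹ * (x * k * x⁻¹ * k⁻¹) := by rw [hke]; group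
      rw [e]
      exact T.mul_mem (T.inv_mem (hmod g k' hk')) (hmod x k hk)
    rw [hkk] at hke
    obtain ⟨-, K, hKp, hHK, hKL, c, hc', hcom, y, hy⟩ := (hpair a ha k hk).2 hak
    rw [hke, ← hcl (a * (x * k * x⁻¹)) y, hy]
    set D := T ⊓ Subgroup.centralizer ({a * k} : Set G) with hDdef
    have hKT : K ≤ T := fun z hz => mem_of_pPrime_mem_sup h.isP (fun w _ => hTN w)
      (by rw [sup_comm, hTH]; exact Subgroup.mem_top z)
      (fun hd => hKp (hd.trans (Subgroup.orderOf_dvd_natCard K hz)))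
    have hKD : K ⊓ Subgroup.centralizer ({a * k} : Set G) ≤ D := inf_le_inf_right _ hKT
    have hHn : H ≤ Subgroup.normalizer
        ((K ⊓ Subgroup.centralizer ({a * k} : Set G) : Subgroup G) : Set G) := fun b hb => by
      rw [Subgroup.mem_normalizer_iff]
      intro z
      refine and_congr (Subgroup.mem_normalizer_iff.1 (hHK hb) z)
        (Subgroup.mem_normalizer_iff.1 (Subgroup.le_normalizer ?_) z)
      exact Subgroup.mem_centralizer_singleton_iff.2 (hcomm b hb _ (H.mul_mem ha hk))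
    have hcΘ : c ∈ ⁅D, H⁆ := by
      have hcK : c ∈ K ⊓ Subgroup.centralizer ({a * k} : Set G) :=
        ⟨hc', Subgroup.mem_centralizer_singleton_iff.2 hcom.symm.eq⟩
      have hsol : Group.IsSolvable H := Group.isSolvable_of_comm fun u v =>
        Subtype.ext (hcomm u u.2 v v.2)
      rw [← CfsgLib.coprime_commutator_sup hHn
        (hcop.symm.coprime_dvd_right (Subgroup.card_dvd_of_le (inf_le_left.trans hKT)))
        (Or.inl hsol)] at hcK
      refine (sup_le (Subgroup.commutator_mono hKD le_rfl) fun z hz => ?_) hcK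
      rw [h.eq_one_of_centralizes hKL hKp hz.1.1 hz.2]
      exact Subgroup.one_mem _
    rw [hcom.eq]
    exact section_const hcop hcomm hcanon (H.mul_mem ha hk) (hloc _ (H.mul_mem ha hk) hak) hcΘ
  have hmul : ∀ a ∈ H, ∀ k ∈ H, a * k ≠ 1 → χ a * χ k = (d : ℂ) * χ (a * k) := by
    intro a ha k hk hak
    have h1 := sum_conj_mul_char hχirr k a
    rw [Finset.sum_congr rfl (g := fun _ => χ (a * k)) fun g _ => by
      rw [← hcl (g * k * g⁻¹ * a) a, ← hval a ha k hk hak g]; congr 1; group,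
      Finset.sum_const, Finset.card_univ, nsmul_eq_mul, ← Nat.card_eq_fintype_card, hd1,
      eq_div_iff hd0, mul_assoc] at h1
    have h2 := mul_left_cancel₀ (Nat.cast_ne_zero.2 Nat.card_pos.ne') h1
    rw [mul_comm (χ a), mul_comm (d : ℂ)]
    exact h2.symm
  -- the values do not vanish
  have hne0 : ∀ a ∈ H, a ≠ 1 → χ a ≠ 0 := by
    intro a ha ha1 h0
    have hall : ∀ b ∈ sharp H, χ b = 0 := by
      intro b hb
      obtain ⟨hbH, hb1⟩ := mem_sharp.1 hb
      rcases eq_or_ne b a with rfl | hba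
      · exact h0
      have h2 := hmul a ha (a⁻¹ * b) (H.mul_mem (H.inv_mem ha) hbH) (by simpa using hb1)
      rw [h0, zero_mul, mul_inv_cancel_left] at h2
      exact (mul_eq_zero.1 h2.symm).resolve_left hd0
    obtain ⟨m, hm⟩ := classInner_char_nat (isCharacter_restrict hc H) (isCharacter_one (G := H))
    unfold classInner at hm
    rw [inv_mul_eq_iff_eq_mul₀ (Nat.cast_ne_zero.2 Nat.card_pos.ne')] at hm
    simp only [map_one, mul_one] at hm
    rw [sum_coe_eq (H := H) χ, Finset.sum_eq_zero hall, add_zero, hd1, ← Nat.cast_mul] at hm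
    have hdvd : Nat.card H ∣ d := ⟨m, Nat.cast_injective hm⟩
    obtain ⟨d', hd', hd'dvd⟩ := degree_dvd θ.2
    have hdd : d' = d := Nat.cast_injective (R := ℂ) (by
      rw [← hd', ← hd1, ← hext 1, Subgroup.coe_one])
    obtain ⟨k, hk⟩ := IsPGroup.iff_card.1 h.isP
    refine hTp ((dvd_trans ?_ hdvd).trans (hdd ▸ hd'dvd))
    rw [hk]
    refine dvd_pow_self p fun e => hH1 (Subgroup.card_eq_one.1 ?_)
    rw [hk, e, pow_zero]
  have hpm : ∀ a ∈ H, a ≠ 1 → χ a * χ a⁻¹ = (d : ℂ) * d := by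
    intro a ha ha1
    have h2 := mul_self_ne_one hp2 h ha ha1
    have e1 := hmul a ha a ha h2
    have e2 := hmul (a * a) (H.mul_mem ha ha) a⁻¹ (H.inv_mem ha) (by simpa using ha1)
    rw [mul_inv_cancel_right] at e2
    refine mul_left_cancel₀ (hne0 a ha ha1) ?_
    calc χ a * (χ a * χ a⁻¹) = (χ a * χ a) * χ a⁻¹ := by ring
      _ = (d : ℂ) * (χ (a * a) * χ a⁻¹) := by rw [e1]; ring
      _ = χ a * ((d : ℂ) * d) := by rw [e2]; ring
  -- the kernel contains the commutators
  have hker : ⁅T, H⁆ ≤ charKernel χ hc := by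
    refine Subgroup.commutator_le.2 fun t _ a ha => ?_
    rcases eq_or_ne a 1 with rfl | ha1
    · rw [commutatorElement_one_right]; exact one_mem _
    rw [mem_charKernel, hd1]
    have h1 := sum_conj_mul_char hχirr a a⁻¹
    rw [hpm a ha ha1, hd1] at h1
    have h2 : ∑ g : G, (χ (g * a * g⁻¹ * a⁻¹)).re = ∑ _g : G, (d : ℝ) := by
      rw [← Complex.re_sum, h1, Finset.sum_const, Finset.card_univ, nsmul_eq_mul,
        ← Nat.card_eq_fintype_card, ← mul_assoc, mul_div_cancel_right₀ _ hd0]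
      simp
    have hle : ∀ g : G, (χ (g * a * g⁻¹ * a⁻¹)).re ≤ (d : ℝ) := fun g =>
      (Complex.re_le_norm _).trans ((norm_char_le hc _).trans_eq (norm_one_eq_charDegree hχirr))
    have h3 := (Finset.sum_eq_sum_iff_of_le fun g _ => hle g).1 h2 t (Finset.mem_univ t)
    rw [commutatorElement_def]
    exact (eq_of_norm_le_of_re_eq ((norm_char_le hc _).trans_eq (norm_one_eq_charDegree hχirr)) h3).trans
      (Complex.ofReal_natCast d)
  have := (mem_charKernel hc (n : G)).1 (hker hn)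
  rw [hext n] at this
  rw [this, ← hext 1, Subgroup.coe_one]

/-- For odd `p`, an extremely closed abelian `p`-subgroup has no fixed points in `[T, H]`. -/
theorem fixed_aux (hp2 : p ≠ 2) : ∀ (n : ℕ) (G : Type u) [Group G] [Finite G], Nat.card G = n →
    ∀ (T H : Subgroup G), T.Normal → T ⊔ H = ⊤ → ¬ p ∣ Nat.card T → Hyp p H →
      ∀ c ∈ ⁅T, H⁆, c ∈ Subgroup.centralizer (H : Set G) → c = 1 := by
  intro n
  induction n using Nat.strong_induction_on with
  | _ n ih => ?_
  intro G _ _ hn T H hTn hTH hTp h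
  classical
  have hp : p.Prime := Fact.out
  haveI := hTn
  rcases eq_or_ne H ⊥ with rfl | hH1
  · intro c hc _
    rw [Subgroup.commutator_bot_right] at hc
    exact hc
  have hcop : (Nat.card T).Coprime (Nat.card H) := by
    obtain ⟨k, hk⟩ := IsPGroup.iff_card.1 h.isP
    rw [hk]
    exact ((hp.coprime_iff_not_dvd.2 hTp).symm).pow_right k
  by_cases hcen : ∃ a ∈ H, a ≠ 1 ∧ a ∈ Subgroup.center G
  · obtain ⟨a, ha, ha1, hac⟩ := hcen
    set Z := Subgroup.zpowers a with hZ
    have hZH : Z ≤ H := Subgroup.zpowers_le.2 ha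
    haveI : Z.Normal := ⟨fun b hb g => by
      rw [Subgroup.mem_center_iff.1 (Subgroup.zpowers_le.2 hac hb) g, mul_inv_cancel_right]; exact hb⟩
    have hlt : Nat.card (G ⧸ Z) < n :=
      hn ▸ CfsgLib.card_quotient_lt_of_ne_bot fun e => ha1 (Subgroup.zpowers_eq_bot.1 e)
    intro c hc hcC
    set π := QuotientGroup.mk' Z with hπ
    have := ih _ hlt _ rfl (T.map π) (H.map π)
      (hTn.map π (QuotientGroup.mk'_surjective Z))
      (by rw [← Subgroup.map_sup, hTH, Subgroup.map_top_of_surjective π (QuotientGroup.mk'_surjective Z)])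
      (fun hd => hTp (hd.trans (Subgroup.card_map_dvd T π))) (h.map Z) (π c)
      (by rw [← Subgroup.map_commutator]; exact ⟨c, hc, rfl⟩) (Subgroup.mem_centralizer_iff.2 ?_)
    · have hcZ : c ∈ Z := (QuotientGroup.eq_one_iff c).1 this
      have hcT : c ∈ T := CfsgLib.commutator_le_of_le_normalizer
        (le_top.trans_eq (Subgroup.normalizer_eq_top T).symm) hc
      exact orderOf_eq_one_iff.1 (Nat.eq_one_of_dvd_coprimes hcop
        (Subgroup.orderOf_dvd_natCard T hcT) (Subgroup.orderOf_dvd_natCard H (hZH hcZ)))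
    · rintro _ ⟨b, hb, rfl⟩
      rw [← map_mul, ← map_mul, Subgroup.mem_centralizer_iff.1 hcC b hb]
  push_neg at hcen
  refine (invariant_kills hTH hcop ?_).2 fun θ hθ m hm =>
    kills_of_local hp2 hTH hTp h hH1 (fun v hv hv1 => ?_) hθ m hm
  · exact Group.isSolvable_of_comm fun u v => Subtype.ext (h.mul_comm u.2 v.2)
  -- the centralizer of a nontrivial element
  set D := T ⊓ Subgroup.centralizer ({v} : Set G) with hD
  set U := D ⊔ H with hU
  have hDU : D ≤ U := le_sup_left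
  have hHU : H ≤ U := le_sup_right
  have hHC : H ≤ Subgroup.centralizer ({v} : Set G) := fun b hb =>
    Subgroup.mem_centralizer_singleton_iff.2 (h.mul_comm hb hv)
  have hUC : U ≤ Subgroup.centralizer ({v} : Set G) := sup_le inf_le_right hHC
  have hlt : Nat.card U < n :=
    hn ▸ (Nat.le_of_dvd Nat.card_pos (Subgroup.card_dvd_of_le hUC)).trans_lt
      (centralizer_lt (hcen v hv hv1))
  have hHn : H ≤ Subgroup.normalizer (D : Set G) := fun b hb => by
    rw [Subgroup.mem_normalizer_iff]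
    intro z
    exact and_congr
      (Subgroup.mem_normalizer_iff.1
        (show b ∈ Subgroup.normalizer (T : Set G) by
          rw [Subgroup.normalizer_eq_top]; exact Subgroup.mem_top b) z)
      (Subgroup.mem_normalizer_iff.1 (Subgroup.le_normalizer (hHC hb)) z)
  intro c hc hcC
  have hcD : c ∈ D := CfsgLib.commutator_le_of_le_normalizer hHn hc
  have := ih _ hlt U rfl (D.subgroupOf U) (H.subgroupOf U)
    ((Subgroup.normal_subgroupOf_iff_le_normalizer hDU).2 (sup_le Subgroup.le_normalizer hHn))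
    (by rw [← Subgroup.subgroupOf_sup hDU hHU, Subgroup.subgroupOf_self])
    (fun hd => hTp (hd.trans (by
      rw [Nat.card_congr (Subgroup.subgroupOfEquivOfLe hDU).toEquiv]
      exact Subgroup.card_dvd_of_le inf_le_left)))
    (h.subgroupOf hHU) ⟨c, hDU hcD⟩ ((mem_commutator_subgroupOf hDU hHU).2 hc)
    (Subgroup.mem_centralizer_iff.2 fun b hb =>
      Subtype.ext (Subgroup.mem_centralizer_iff.1 hcC b (Subgroup.mem_subgroupOf.1 hb)))
  exact congrArg Subtype.val this

/-- The same inside any finite group. -/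
theorem fixed_eq_one (hp2 : p ≠ 2) {G : Type u} [Group G] [Finite G] {T H : Subgroup G}
    (hHT : H ≤ Subgroup.normalizer (T : Set G)) (hTp : ¬ p ∣ Nat.card T) (h : Hyp p H) {c : G}
    (hc : c ∈ ⁅T, H⁆) (hcC : c ∈ Subgroup.centralizer (H : Set G)) : c = 1 := by
  set U := T ⊔ H with hU
  have hTU : T ≤ U := le_sup_left
  have hHU : H ≤ U := le_sup_right
  have hcT : c ∈ T := CfsgLib.commutator_le_of_le_normalizer hHT hc
  have := fixed_aux hp2 _ U rfl (T.subgroupOf U) (H.subgroupOf U)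
    ((Subgroup.normal_subgroupOf_iff_le_normalizer hTU).2 (sup_le Subgroup.le_normalizer hHT))
    (by rw [← Subgroup.subgroupOf_sup hTU hHU, Subgroup.subgroupOf_self])
    (fun hd => hTp (hd.trans (dvd_of_eq (Nat.card_congr (Subgroup.subgroupOfEquivOfLe hTU).toEquiv))))
    (h.subgroupOf hHU) ⟨c, hTU hcT⟩ ((mem_commutator_subgroupOf hTU hHU).2 hc)
    (Subgroup.mem_centralizer_iff.2 fun b hb =>
      Subtype.ext (Subgroup.mem_centralizer_iff.1 hcC b (Subgroup.mem_subgroupOf.1 hb)))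
  exact congrArg Subtype.val this

/-- The normal closure meets the normalizer in `H`. -/
theorem normalClosure_inf_normalizer (hp2 : p ≠ 2) {G : Type u} [Group G] [Finite G]
    (H : Subgroup G) (h : Hyp p H) :
    Subgroup.normalClosure (H : Set G) ⊓ Subgroup.normalizer (H : Set G) = H := by
  have hp : p.Prime := Fact.out
  set O := pPrimeCore p G with hO
  have hHO : H ≤ Subgroup.normalizer (O : Set G) :=
    le_top.trans_eq (Subgroup.normalizer_eq_top O).symm
  set W := ⁅O, H⁆ ⊔ H with hW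
  have hclW : Subgroup.normalClosure (H : Set G) ≤ W := by
    show Subgroup.closure (Group.conjugatesOfSet (H : Set G)) ≤ W
    rw [Subgroup.closure_le]
    intro z hz
    obtain ⟨a, ha, hconj⟩ := Group.mem_conjugatesOfSet_iff.1 hz
    obtain ⟨g, rfl⟩ := isConj_iff.1 hconj
    obtain ⟨o, ho, n, hn, rfl⟩ := Subgroup.mem_sup_of_normal_left.1
      (((sup_comm _ _).trans (normalizer_sup_pPrimeCore H h)).symm ▸ Subgroup.mem_top g :
        g ∈ O ⊔ Subgroup.normalizer (H : Set G))
    have ha' : n * a * n⁻¹ ∈ H := (Subgroup.mem_normalizer_iff.1 hn a).1 ha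
    rw [show o * n * a * (o * n)⁻¹ = ⁅o, n * a * n⁻¹⁆ * (n * a * n⁻¹) by
      rw [commutatorElement_def]; group]
    exact Subgroup.mul_mem_sup (Subgroup.commutator_mem_commutator ho ha') ha'
  refine le_antisymm ?_ (le_inf Subgroup.le_normalClosure Subgroup.le_normalizer)
  rintro z ⟨hz, hzN⟩
  obtain ⟨w, hw, a, ha, rfl⟩ := CfsgLib.mem_sup_of_le_normalizer
    (CfsgLib.right_le_normalizer_commutator H O) (hclW hz)
  have hwO : w ∈ O := CfsgLib.commutator_le_of_le_normalizer hHO hw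
  have hwN : w ∈ Subgroup.normalizer (H : Set G) :=
    (Subgroup.mul_mem_cancel_right _ (Subgroup.le_normalizer ha)).1 hzN
  have hwC : w ∈ Subgroup.centralizer (H : Set G) := by
    refine Subgroup.mem_centralizer_iff.2 fun b hb => ?_
    have h1 : w * b * w⁻¹ * b⁻¹ ∈ H :=
      H.mul_mem ((Subgroup.mem_normalizer_iff.1 hwN b).1 hb) (H.inv_mem hb)
    have h2 : w * b * w⁻¹ * b⁻¹ ∈ O := by
      rw [show w * b * w⁻¹ * b⁻¹ = w * (b * w⁻¹ * b⁻¹) by group]
      exact O.mul_mem hwO ((Subgroup.mem_normalizer_iff.1 (hHO hb) _).1 (O.inv_mem hwO))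
    have hcop : (Nat.card O).Coprime (Nat.card H) := by
      obtain ⟨k, hk⟩ := IsPGroup.iff_card.1 h.isP
      rw [hk]
      exact (CfsgLib.card_pPrimeCore_coprime p).pow_right k
    have h3 : w * b * w⁻¹ * b⁻¹ = 1 := orderOf_eq_one_iff.1 (Nat.eq_one_of_dvd_coprimes hcop
      (Subgroup.orderOf_dvd_natCard O h2) (Subgroup.orderOf_dvd_natCard H h1))
    rw [mul_inv_eq_one, mul_inv_eq_iff_eq_mul] at h3
    exact h3.symm
  rw [fixed_eq_one hp2 hHO (CfsgLib.not_dvd_card_pPrimeCore hp) h hw hwC, one_mul]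
  exact ha

end CfsgLib.ExtClosed
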