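import Cfsg.Agent.Lib.Glauberman.Cyclic
import Cfsg.Agent.Lib.Coprime
import Cfsg.Agent.Lib.Basic

/-!
# Invariant characters and the kernel of a coprime action
-/

set_option autoImplicit false
set_option linter.style.haveILetI false

universe u

namespace CfsgLib.ExtClosed

open Cfsg CfsgLib.CharTheory CfsgLib.Glauberman
open scoped commutatorElement

variable {G : Type u} [Group G] [Finite G] {T H : Subgroup G}

/-- Invariance under a supplement is invariance under the group. -/
theorem conjNormFun_eq_of_supplement [T.Normal] (hTH : T ⊔ H = ⊤) {θ : T → ℂ}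
    (hθ : IsClassFunction T θ)
    (hinv : ∀ s ∈ H, ∀ n n' : T, (n' : G) = s * n * s⁻¹ → θ n' = θ n) (g : G) :
    conjNormFun T g θ = θ := by
  rw [← mem_inertia]
  have hle : T ⊔ H ≤ inertia T θ := by
    refine sup_le (le_inertia T hθ) fun s hs => ?_
    rw [mem_inertia]
    funext n
    exact hinv s hs n _ rfl
  exact hle (hTH ▸ Subgroup.mem_top g)

/-- A surjection reduces the number of classes. -/
theorem card_conjClasses_le_of_surjective {A B : Type u} [Group A] [Group B] [Finite A]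
    (f : A →* B) (hf : Function.Surjective f) :
    Nat.card (ConjClasses B) ≤ Nat.card (ConjClasses A) := by
  refine Nat.card_le_card_of_surjective (ConjClasses.map f) ?_
  intro K
  obtain ⟨b, rfl⟩ := ConjClasses.mk_surjective K
  obtain ⟨a, rfl⟩ := hf b
  exact ⟨ConjClasses.mk a, rfl⟩

/-- A surjection preserving the number of classes is injective. -/
theorem injective_of_card_conjClasses {A B : Type u} [Group A] [Group B] [Finite A] [Finite B]
    (f : A →* B) (hf : Function.Surjective f)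
    (hc : Nat.card (ConjClasses A) ≤ Nat.card (ConjClasses B)) : Function.Injective f := by
  rw [injective_iff_map_eq_one]
  intro a ha
  have hs : Function.Surjective (ConjClasses.map f) := by
    intro K
    obtain ⟨b, rfl⟩ := ConjClasses.mk_surjective K
    obtain ⟨a, rfl⟩ := hf b
    exact ⟨ConjClasses.mk a, rfl⟩
  have hinj : Function.Injective (ConjClasses.map f) :=
    ((Nat.bijective_iff_surjective_and_card _).2
      ⟨hs, le_antisymm hc (card_conjClasses_le_of_surjective f hf)⟩).1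
  have h1 : ConjClasses.mk a = ConjClasses.mk (1 : A) := hinj (by
    show ConjClasses.mk (f a) = ConjClasses.mk (f 1)
    rw [ha, map_one])
  exact isConj_one_left.1 (ConjClasses.mk_eq_mk_iff_isConj.1 h1)

/-- The invariant characters and the characters of `T / [T, H]`. -/
theorem invariant_kills [T.Normal] (hTH : T ⊔ H = ⊤)
    (hcop : (Nat.card T).Coprime (Nat.card H)) (hsol : Group.IsSolvable H) :
    ((∀ c ∈ ⁅T, H⁆, c ∈ Subgroup.centralizer (H : Set G) → c = 1) →
      ∀ θ : IrrCharacter T, (∀ g, conjNormFun T g (θ : T → ℂ) = (θ : T → ℂ)) →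
        ∀ n : T, (n : G) ∈ ⁅T, H⁆ → (θ : T → ℂ) n = (θ : T → ℂ) 1) ∧
    ((∀ θ : IrrCharacter T, (∀ g, conjNormFun T g (θ : T → ℂ) = (θ : T → ℂ)) →
        ∀ n : T, (n : G) ∈ ⁅T, H⁆ → (θ : T → ℂ) n = (θ : T → ℂ) 1) →
      ∀ c ∈ ⁅T, H⁆, c ∈ Subgroup.centralizer (H : Set G) → c = 1) := by
  classical
  letI : Fintype G := Fintype.ofFinite G
  letI : Fintype T := Fintype.ofFinite _
  have hHT : H ≤ Subgroup.normalizer (T : Set G) :=
    le_top.trans_eq (Subgroup.normalizer_eq_top T).symm
  have hNT : ⁅T, H⁆ ≤ T := CfsgLib.commutator_le_of_le_normalizer hHT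
  set N := (⁅T, H⁆).subgroupOf T with hN
  haveI hNn : N.Normal := (Subgroup.normal_subgroupOf_iff_le_normalizer hNT).2
    (CfsgLib.left_le_normalizer_commutator H T)
  set C := T ⊓ Subgroup.centralizer (H : Set G) with hC
  let f : C →* T ⧸ N := (QuotientGroup.mk' N).comp (Subgroup.inclusion inf_le_left)
  have hf : Function.Surjective f := by
    intro y
    obtain ⟨t, rfl⟩ := QuotientGroup.mk_surjective y
    obtain ⟨x, hx, c, hc, e⟩ := CfsgLib.coprime_decomp hHT hcop.symm (Or.inl hsol) t.2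
    refine ⟨⟨c, hc⟩, ?_⟩
    show ((⟨c, hc.1⟩ : T) : T ⧸ N) = _
    have ec : t = ⟨x, hNT hx⟩ * ⟨c, hc.1⟩ := Subtype.ext e
    have hxN : (⟨x, hNT hx⟩ : T) ∈ N := Subgroup.mem_subgroupOf.2 hx
    rw [ec, QuotientGroup.mk_mul, (QuotientGroup.eq_one_iff _).2 hxN, one_mul]
  set A : Set (IrrCharacter T) := {θ | ∀ n ∈ N, (θ : T → ℂ) n = (θ : T → ℂ) 1} with hA
  set B : Set (IrrCharacter T) := {θ | ∀ g, conjNormFun T g (θ : T → ℂ) = (θ : T → ℂ)} with hB
  have hAB : A ⊆ B := by
    intro θ hθ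
    refine conjNormFun_eq_of_supplement hTH (isClassFunction_irr θ.2) fun s hs n n' e => ?_
    obtain ⟨ψ, -, hψ⟩ := exists_quotient_irr N θ.2 hθ
    rw [hψ]
    refine congrArg ψ (QuotientGroup.eq.2 (Subgroup.mem_subgroupOf.2 ?_))
    have hm : ⁅(n : G)⁻¹, s⁆ ∈ ⁅T, H⁆ :=
      Subgroup.commutator_mem_commutator (T.inv_mem n.2) hs
    have e' : ((n'⁻¹ * n : T) : G) = s * (n : G)⁻¹ * s⁻¹ * n := by
      rw [Subgroup.coe_mul, Subgroup.coe_inv, e]; group
    have e'' : s * (n : G)⁻¹ * s⁻¹ * n = (n : G)⁻¹ * ((n : G) * s * (n : G)⁻¹ * s⁻¹) * n := by group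
    rw [e', e'']
    have hm2 : (n : G) * s * (n : G)⁻¹ * s⁻¹ ∈ ⁅T, H⁆ := by
      rw [← commutatorElement_def]; exact Subgroup.commutator_mem_commutator n.2 hs
    have := (Subgroup.mem_normalizer_iff.1
      (CfsgLib.left_le_normalizer_commutator H T (T.inv_mem n.2)) _).1 hm2
    simpa using this
  have hcA : Nat.card A = Nat.card (ConjClasses (T ⧸ N)) := by
    rw [← card_irr_eq_card_conjClasses]
    exact (Nat.card_congr (quotientIrrEquiv N)).symm
  have hcB : Nat.card B = Nat.card (ConjClasses C) :=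
    card_inv_eq_card_classes T H hTH hcop hsol
  constructor
  · intro h1 θ hθ n hn
    have hinj : Function.Injective f := by
      rw [injective_iff_map_eq_one]
      intro c hc
      have hcN : (⟨(c : G), c.2.1⟩ : T) ∈ N := (QuotientGroup.eq_one_iff _).1 hc
      have : ((c : G)) ∈ ⁅T, H⁆ := Subgroup.mem_subgroupOf.1 hcN
      exact Subtype.ext (h1 _ this c.2.2)
    have hAeq : A = B := Set.eq_of_subset_of_ncard_le hAB (by
      rw [← Nat.card_coe_set_eq, ← Nat.card_coe_set_eq, hcA, hcB]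
      exact le_of_eq (card_conjClasses_congr (MulEquiv.ofBijective f ⟨hinj, hf⟩)))
      (Set.toFinite _)
    have hθA : θ ∈ A := hAeq ▸ hθ
    exact hθA n (Subgroup.mem_subgroupOf.2 hn)
  · intro h1 c hc hcC
    have hBA : B ⊆ A := fun θ hθ n hn => h1 θ hθ n (Subgroup.mem_subgroupOf.1 hn)
    have hinj := injective_of_card_conjClasses f hf (by
      rw [← hcA, ← hcB, Set.Subset.antisymm hAB hBA])
    have h0 : f ⟨c, hNT hc, hcC⟩ = f 1 := by
      rw [map_one]
      have hcN : (⟨c, hNT hc⟩ : T) ∈ N := Subgroup.mem_subgroupOf.2 hc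
      exact (QuotientGroup.eq_one_iff _).2 hcN
    exact congrArg Subtype.val (hinj h0)

end CfsgLib.ExtClosed
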